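import Mathlib
import Cfsg.Agent.LinearPerm.OddTransitiveBasics

/-!
Solvable transitive linear groups: centralisers of irreducible elements, semiregular abelian subgroups,
abelian subgroups normalised by an element of primitive prime divisor order.
-/

set_option autoImplicit false
set_option linter.style.haveILetI false
set_option linter.unusedSectionVars false

namespace Cfsg.Lib.SolvableTransitive

open Module Subgroup

variable {q : ℕ} [Fact q.Prime] {V : Type*} [AddCommGroup V] [Module (ZMod q) V] [Finite V]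
  {G : Type*} [Group G] [Finite G]

/-- Only the trivial subspaces are invariant under `S`. -/
def Irr (S : Set (Module.End (ZMod q) V)) : Prop :=
  ∀ W : Submodule (ZMod q) V, (∀ f ∈ S, ∀ v ∈ W, f v ∈ W) → W = ⊥ ∨ W = ⊤

/-- No non-identity element of `A` fixes a non-zero vector. -/
def Semi (τ : G →* Module.End (ZMod q) V) (A : Subgroup G) : Prop :=
  ∀ a ∈ A, ∀ v : V, v ≠ 0 → τ a v = v → a = 1

theorem finite_end : Finite (Module.End (ZMod q) V) :=
  Finite.of_injective (fun f : Module.End (ZMod q) V => (f : V → V)) DFunLike.coe_injective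

theorem card_dvd_of_free {P X : Type*} [Group P] [Finite P] [MulAction P X]
    (h : ∀ x : X, MulAction.stabilizer P x = ⊥) : Nat.card P ∣ Nat.card X := by
  classical
  rw [Nat.card_congr (MulAction.selfEquivSigmaOrbitsQuotientStabilizer P X),
    Nat.card_congr (Equiv.sigmaEquivProdOfEquiv fun ω =>
      show (P ⧸ MulAction.stabilizer P (Quotient.out ω)) ≃ P from
        (Quotient.congrRight (fun a b => by rw [h]) ).trans QuotientGroup.quotientBot.toEquiv), Nat.card_prod]
  exact dvd_mul_left _ _

theorem tau_inv_mul (τ : G →* Module.End (ZMod q) V) (g : G) (v : V) : τ g⁻¹ (τ g v) = v := by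
  rw [← Module.End.mul_apply, ← map_mul, inv_mul_cancel, map_one]; rfl

theorem tau_injective (τ : G →* Module.End (ZMod q) V) (g : G) : Function.Injective (τ g) :=
  Function.LeftInverse.injective (g := τ g⁻¹) (tau_inv_mul τ g)

/-- A linear map of prime order `r` which is not the identity moves at least `n` dimensions. -/
theorem fix_gap {M : Type*} [AddCommGroup M] [Module (ZMod q) M] [Finite M] {r n : ℕ} [Fact r.Prime]
    (hrq : r ≠ q) (hord : ∀ d, r ∣ q ^ d - 1 → d = 0 ∨ n ≤ d) (f : Module.End (ZMod q) M) (hf : f ^ r = 1)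
    (h1 : f ≠ 1) :
    n + finrank (ZMod q) (LinearMap.ker (f - 1)) ≤ finrank (ZMod q) M := by
  have hr : r.Prime := Fact.out
  have hq : q.Prime := Fact.out
  haveI : Finite (Module.End (ZMod q) M) := finite_end
  let u : (Module.End (ZMod q) M)ˣ := Units.ofPowEqOne f r hf hr.pos.ne'
  have hP : IsPGroup r (Subgroup.zpowers u) := by
    refine IsPGroup.iff_card.2 ?_
    rw [Nat.card_zpowers]
    obtain ⟨k, -, hk⟩ := (Nat.dvd_prime_pow hr).1
      (show orderOf u ∣ r ^ 1 by rw [pow_one]; exact orderOf_dvd_of_pow_eq_one (Units.ext (by rw [Units.val_pow_eq_pow_val]; exact hf)))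
    exact ⟨k, hk⟩
  have hfix : ∀ v : M, v ∈ MulAction.fixedPoints (Subgroup.zpowers u) M ↔ v ∈ LinearMap.ker (f - 1) := by
    intro v
    rw [LinearMap.mem_ker, LinearMap.sub_apply, Module.End.one_apply, sub_eq_zero]
    constructor
    · intro h
      exact h ⟨u, Subgroup.mem_zpowers u⟩
    · intro h g
      have hu : u ∈ MulAction.stabilizer (Module.End (ZMod q) M)ˣ v := MulAction.mem_stabilizer_iff.2 h
      exact MulAction.mem_stabilizer_iff.1 (Subgroup.zpowers_le.2 hu g.2)
  have hmod := hP.card_modEq_card_fixedPoints M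
  rw [Nat.card_congr (Equiv.subtypeEquivRight hfix), Module.natCard_eq_pow_finrank (K := ZMod q) (V := M),
    Module.natCard_eq_pow_finrank (K := ZMod q) (V := LinearMap.ker (f - 1)), Nat.card_zmod] at hmod
  set a := finrank (ZMod q) M
  set b := finrank (ZMod q) (LinearMap.ker (f - 1))
  have hle : b ≤ a := Submodule.finrank_le _
  have hne : b ≠ a := fun h => h1 (sub_eq_zero.1 (LinearMap.ker_eq_top.1 (Submodule.eq_top_of_finrank_eq h)))
  have hd : r ∣ q ^ b * (q ^ (a - b) - 1) := by
    rw [Nat.mul_sub, mul_one, ← pow_add, Nat.add_sub_cancel' hle]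
    exact (Nat.modEq_iff_dvd' (Nat.pow_le_pow_right hq.pos hle)).1 hmod.symm
  rcases (Nat.Prime.dvd_mul hr).1 hd with h | h
  · exact absurd ((Nat.prime_dvd_prime_iff_eq hr hq).1 (hr.dvd_of_dvd_pow h)) hrq
  · rcases hord _ h with h | h <;> omega

theorem irr_of_order {r : ℕ} [Fact r.Prime] (hrq : r ≠ q)
    (hord : ∀ d, r ∣ q ^ d - 1 → d = 0 ∨ finrank (ZMod q) V ≤ d) {f : Module.End (ZMod q) V} (hf : f ^ r = 1)
    (h1 : f ≠ 1) : LinearMap.ker (f - 1) = ⊥ ∧ Irr ({f} : Set (Module.End (ZMod q) V)) := by
  have hker : LinearMap.ker (f - 1) = ⊥ := by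
    have := fix_gap hrq hord f hf h1
    exact Submodule.finrank_eq_zero.1 (by omega)
  refine ⟨hker, fun W hW => ?_⟩
  have hW' : ∀ v ∈ W, f v ∈ W := hW f rfl
  let g : Module.End (ZMod q) W := f.restrict hW'
  by_cases hg : g = 1
  · refine Or.inl (le_bot_iff.1 fun v hv => hker ▸ ?_)
    rw [LinearMap.mem_ker, LinearMap.sub_apply, Module.End.one_apply, sub_eq_zero]
    exact congrArg Subtype.val (LinearMap.congr_fun hg ⟨v, hv⟩)
  · refine Or.inr (Submodule.eq_top_of_finrank_eq (le_antisymm (Submodule.finrank_le _) ?_))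
    have := fix_gap hrq hord g (by rw [Module.End.pow_restrict r]; ext v; simp [hf]) hg
    omega

theorem inj_of_commute {S : Set (Module.End (ZMod q) V)} (hS : Irr S) {f : Module.End (ZMod q) V} (h0 : f ≠ 0)
    (hc : ∀ s ∈ S, Commute f s) : Function.Injective f := by
  rw [← LinearMap.ker_eq_bot]
  refine (hS _ fun s hs v hv => ?_).resolve_right fun h => h0 (LinearMap.ker_eq_top.1 h)
  rw [LinearMap.mem_ker] at hv ⊢
  rw [← Module.End.mul_apply, (hc s hs).eq, Module.End.mul_apply, hv, map_zero]

/-- A finite group of operators commuting with an irreducible set is cyclic. -/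
theorem cyclic_of_commute [Nontrivial V] {S : Set (Module.End (ZMod q) V)} (hS : Irr S) {P : Type*} [Group P]
    [Finite P] (φ : P →* Module.End (ZMod q) V) (hφ : Function.Injective φ)
    (hc : ∀ a : P, ∀ s ∈ S, Commute (φ a) s) : IsCyclic P := by
  let L := Subalgebra.centralizer (ZMod q) S
  have hmem : ∀ a, φ a ∈ L := fun a => (Subalgebra.mem_centralizer_iff _).2 fun s hs => ((hc a s hs).eq).symm
  haveI : Nontrivial L := ⟨0, 1, fun h => zero_ne_one (congrArg Subtype.val h : (0 : Module.End (ZMod q) V) = 1)⟩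
  haveI : NoZeroDivisors L := ⟨fun {a b} hab => by
    by_contra! h
    have ha : Function.Injective (a : Module.End (ZMod q) V) := inj_of_commute hS (fun e => h.1 (Subtype.ext e))
      fun s hs => ((Subalgebra.mem_centralizer_iff _).1 a.2 s hs).symm
    refine h.2 (Subtype.ext (LinearMap.ext fun v => ha ?_))
    show (a : Module.End (ZMod q) V) ((b : Module.End (ZMod q) V) v) = (a : Module.End (ZMod q) V) 0
    rw [map_zero]
    exact congrArg (fun z : L => (z : Module.End (ZMod q) V) v) hab⟩
  haveI : IsDomain L := NoZeroDivisors.to_isDomain _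
  haveI : Finite (Module.End (ZMod q) V) := finite_end
  haveI : Finite L := Subtype.finite
  have hF := Finite.isDomain_to_isField L
  letI : CommRing L := { (inferInstance : Ring L) with mul_comm := hF.mul_comm }
  exact isCyclic_of_subgroup_isDomain
    ({ toFun := fun a => ⟨φ a, hmem a⟩
       map_one' := Subtype.ext (map_one φ)
       map_mul' := fun a b => Subtype.ext (map_mul φ a b) } : P →* L)
    fun a b h => hφ (congrArg Subtype.val h)

theorem cyclic_of_semi [Nontrivial V] (τ : G →* Module.End (ZMod q) V) {A : Subgroup G}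
    (hA : ∀ a ∈ A, ∀ b ∈ A, a * b = b * a) (hs : Semi τ A) : IsCyclic A := by
  obtain ⟨W, -, ⟨hW0, hWA⟩, hmin⟩ := Finite.exists_le_minimal
    (p := fun W : Submodule (ZMod q) V => W ≠ ⊥ ∧ ∀ a ∈ A, ∀ v ∈ W, τ a v ∈ W) (a := ⊤)
    ⟨top_ne_bot, fun _ _ _ _ => Submodule.mem_top⟩
  haveI : Nontrivial W := Submodule.nontrivial_iff_ne_bot.2 hW0
  let φ : A →* Module.End (ZMod q) W :=
    { toFun := fun a => (τ a).restrict (hWA a a.2)
      map_one' := LinearMap.ext fun v => Subtype.ext (by simp)
      map_mul' := fun a b => LinearMap.ext fun v => Subtype.ext (by simp) }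
  refine cyclic_of_commute (S := Set.range φ) (fun W' hW' => ?_) φ ((injective_iff_map_eq_one φ).2 fun a ha => ?_) ?_
  · by_cases h0 : W' = ⊥
    · exact Or.inl h0
    refine Or.inr (Submodule.map_injective_of_injective W.injective_subtype ?_)
    rw [Submodule.map_top, Submodule.range_subtype]
    refine le_antisymm (Submodule.map_subtype_le W W') (hmin ⟨fun h => h0 ?_, ?_⟩ (Submodule.map_subtype_le W W'))
    · exact Submodule.map_injective_of_injective W.injective_subtype (by rw [h, Submodule.map_bot])
    · rintro a ha _ ⟨v, hv, rfl⟩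
      exact ⟨φ ⟨a, ha⟩ v, hW' _ ⟨⟨a, ha⟩, rfl⟩ v hv, rfl⟩
  · obtain ⟨v, hv⟩ := exists_ne (0 : W)
    exact Subtype.ext (hs a a.2 v (fun h => hv (Subtype.ext h)) (congrArg Subtype.val (LinearMap.congr_fun ha v)))
  · rintro a _ ⟨b, rfl⟩
    rw [commute_iff_eq, ← map_mul, ← map_mul]
    exact congrArg φ (Subtype.ext (hA a a.2 b b.2))

theorem semi_dvd (τ : G →* Module.End (ZMod q) V) {A : Subgroup G} (hs : Semi τ A)
    {W : Submodule (ZMod q) V} (hW : ∀ a ∈ A, ∀ v ∈ W, τ a v ∈ W) :
    Nat.card A ∣ q ^ finrank (ZMod q) W - 1 := by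
  classical
  letI : MulAction A {v : W // v ≠ 0} :=
    { smul := fun a v => ⟨⟨τ a (v : W), hW a a.2 _ (v : W).2⟩, fun h => v.2 (Subtype.ext
        (tau_injective τ a (by rw [ZeroMemClass.coe_zero, map_zero]; exact congrArg Subtype.val h)))⟩
      one_smul := fun v => Subtype.ext (Subtype.ext (show τ ((1 : A) : G) _ = _ by rw [Subgroup.coe_one, map_one]; rfl))
      mul_smul := fun a b v => Subtype.ext (Subtype.ext (show τ ((a * b : A) : G) _ = _ by
        rw [Subgroup.coe_mul, map_mul]; rfl)) }
  have h := card_dvd_of_free (P := A) (X := {v : W // v ≠ 0}) fun v => (Subgroup.eq_bot_iff_forall _).2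
    fun a ha => Subtype.ext (hs a a.2 _ (fun h => v.2 (Subtype.ext h))
      (congrArg (fun z : {v : W // v ≠ 0} => ((z : W) : V)) (MulAction.mem_stabilizer_iff.1 ha)))
  haveI : Fintype {v : W // v ≠ 0} := Fintype.ofFinite _
  haveI : Fintype W := Fintype.ofFinite _
  rwa [Nat.card_eq_fintype_card (α := {v : W // v ≠ 0}), Fintype.card_subtype_compl, Fintype.card_subtype_eq,
    ← Nat.card_eq_fintype_card, Module.natCard_eq_pow_finrank (K := ZMod q) (V := W), Nat.card_zmod] at h

theorem semi_of_normal (τ : G →* Module.End (ZMod q) V) (hinj : Function.Injective τ)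
    (htr : ∀ v w : V, v ≠ 0 → w ≠ 0 → ∃ g : G, τ g v = w) (A : Subgroup G) [A.Normal]
    (hA : ∀ a ∈ A, ∀ b ∈ A, a * b = b * a) : Semi τ A := by
  letI : DistribMulAction G V := DistribMulAction.compHom V τ
  haveI : FaithfulSMul G V := ⟨fun {g h} e => hinj (LinearMap.ext e)⟩
  exact Cfsg.Lib.LinearPerm.OddTrans.semireg_of_normal_abelian (E := V) htr A hA

/-- An abelian subgroup of order prime to `q` normalised by an element of primitive prime divisor order is
centralised by it. -/
theorem commute_of_abelian {r : ℕ} [Fact r.Prime] (hrq : r ≠ q) [Nontrivial V]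
    (hord : ∀ d, r ∣ q ^ d - 1 → d = 0 ∨ finrank (ZMod q) V ≤ d) (τ : G →* Module.End (ZMod q) V)
    (hinj : Function.Injective τ) {x : G} (hx : x ^ r = 1) {P : Subgroup G}
    (hP : ∀ a ∈ P, ∀ b ∈ P, a * b = b * a) (hco : (Nat.card P).Coprime q)
    (hxP : ∀ a ∈ P, x * a * x⁻¹ ∈ P) : ∀ a ∈ P, Commute x a := by
  classical
  have hq : q.Prime := Fact.out
  haveI : Finite (Module.End (ZMod q) V) := finite_end
  haveI : CharP (Module.End (ZMod q) V) q := charP_of_injective_algebraMap (algebraMap (ZMod q) _).injective q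
  set K := Algebra.adjoin (ZMod q) (τ '' (P : Set G)) with hK
  have hcomm : ∀ k ∈ K, ∀ l ∈ K, Commute k l := by
    have h1 : ∀ s ∈ τ '' (P : Set G), ∀ t ∈ τ '' (P : Set G), Commute s t := by
      rintro _ ⟨a, ha, rfl⟩ _ ⟨b, hb, rfl⟩
      rw [commute_iff_eq, ← map_mul, ← map_mul, hP a ha b hb]
    intro k hk l hl
    refine Algebra.commute_of_mem_adjoin_of_forall_mem_commute hl fun s hs => ?_
    exact (Algebra.commute_of_mem_adjoin_of_forall_mem_commute hk fun t ht => h1 s hs t ht).symm
  set j := (Nat.card P).totient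
  have hj : 0 < j := Nat.totient_pos.2 Nat.card_pos
  set m := q ^ j with hm
  have hm1 : 1 < m := Nat.one_lt_pow hj.ne' hq.one_lt
  have hpow : ∀ k ∈ K, k ^ m = k := by
    intro k hk
    induction hk using Algebra.adjoin_induction with
    | mem y hy =>
      obtain ⟨a, ha, rfl⟩ := hy
      have hmod : m ≡ 1 [MOD Nat.card P] := Nat.ModEq.pow_totient hco.symm
      rw [← map_pow]
      refine congrArg τ ?_
      have h2 : (⟨a, ha⟩ : P) ^ m = (⟨a, ha⟩ : P) ^ 1 := by
        rw [← pow_mod_natCard, hmod, pow_mod_natCard]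
      simpa using congrArg Subtype.val h2
    | algebraMap c => rw [← map_pow, hm, ZMod.pow_card_pow]
    | add y z hy hz iy iz => rw [hm, add_pow_char_pow_of_commute q j (hcomm y hy z hz), ← hm, iy, iz]
    | mul y z hy hz iy iz => rw [(hcomm y hy z hz).mul_pow, iy, iz]
  let Ann : V → Set (Module.End (ZMod q) V) := fun v => {k | k ∈ K ∧ k v = 0}
  obtain ⟨v, hv⟩ := Finite.exists_min fun v => Nat.card (Ann v)
  have hann : ∀ k ∈ K, k v = 0 → k = 0 := by
    intro k hk hkv
    by_contra hk0
    set e := k ^ (m - 1) with he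
    have hek : e * k = k := by rw [he, ← pow_succ, Nat.sub_add_cancel hm1.le, hpow k hk]
    have heK : e ∈ K := pow_mem hk _
    have hev : e v = 0 := by
      rw [he, show m - 1 = m - 2 + 1 by omega, pow_succ, Module.End.mul_apply, hkv, map_zero]
    have hee : e * e = e := by
      have h2 : e * e = k ^ (m - 2) * (e * k) := by
        rw [he, ← pow_succ, ← pow_add, ← pow_add]; congr 1; omega
      rw [h2, hek, ← pow_succ, show m - 2 + 1 = m - 1 by omega, he]
    obtain ⟨w, hw⟩ : ∃ w, e w ≠ 0 := by
      by_contra! hc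
      exact hk0 (by rw [← hek, show e = 0 from LinearMap.ext hc, zero_mul])
    have hew : e (v + e w) = e w := by rw [map_add, hev, zero_add, ← Module.End.mul_apply, hee]
    have hsub : Ann (v + e w) ⊂ Ann v := by
      refine Set.ssubset_iff_of_subset ?_ |>.2 ⟨e, ⟨heK, hev⟩, fun h => hw (hew.symm.trans h.2)⟩
      rintro l ⟨hl, hlv⟩
      refine ⟨hl, ?_⟩
      have h1 : e (l (v + e w)) = 0 := by rw [hlv, map_zero]
      rw [← Module.End.mul_apply, (hcomm e heK l hl).eq, Module.End.mul_apply, hew] at h1
      rwa [map_add, h1, add_zero] at hlv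
    have := Set.ncard_lt_ncard hsub (Set.toFinite _)
    exact absurd (hv (v + e w)) (not_le.2 (by simpa [← Nat.card_coe_set_eq] using this))
  let ev : K.toSubmodule →ₗ[ZMod q] V :=
    { toFun := fun k => (k : Module.End (ZMod q) V) v, map_add' := fun _ _ => rfl, map_smul' := fun _ _ => rfl }
  have hdim : finrank (ZMod q) K.toSubmodule ≤ finrank (ZMod q) V :=
    LinearMap.finrank_le_finrank_of_injective (f := ev) ((injective_iff_map_eq_zero ev).2 fun k hk =>
      Subtype.ext (hann k k.2 hk))
  -- conjugation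
  let c : Module.End (ZMod q) (Module.End (ZMod q) V) :=
    (LinearMap.mulLeft (ZMod q) (τ x)).comp (LinearMap.mulRight (ZMod q) (τ x⁻¹))
  have hcapp : ∀ k, c k = τ x * (k * τ x⁻¹) := fun k => rfl
  have hcmul : ∀ k l, c (k * l) = c k * c l := by
    intro k l
    simp only [hcapp, mul_assoc]
    rw [← mul_assoc (τ x⁻¹) (τ x), ← map_mul, inv_mul_cancel, map_one, one_mul]
  have hc1 : c 1 = 1 := by rw [hcapp, one_mul, ← map_mul, mul_inv_cancel, map_one]
  have hcK : ∀ k ∈ K.toSubmodule, c k ∈ K.toSubmodule := by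
    intro k hk
    induction hk using Algebra.adjoin_induction with
    | mem y hy =>
      obtain ⟨a, ha, rfl⟩ := hy
      rw [hcapp, ← map_mul, ← map_mul, ← mul_assoc]
      exact Algebra.subset_adjoin ⟨_, hxP a ha, rfl⟩
    | algebraMap t =>
      rw [Algebra.algebraMap_eq_smul_one, map_smul, hc1]
      exact Submodule.smul_mem _ _ (one_mem K)
    | add y z hy hz iy iz => rw [map_add]; exact add_mem iy iz
    | mul y z hy hz iy iz => rw [hcmul]; exact mul_mem (s := K) iy iz
  have hcpow : ∀ i : ℕ, ∀ k, (c ^ i) k = τ (x ^ i) * (k * τ (x⁻¹ ^ i)) := by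
    intro i
    induction i with
    | zero => intro k; simp
    | succ i ih =>
      intro k
      rw [pow_succ', Module.End.mul_apply, ih, hcapp, pow_succ', pow_succ, map_mul, map_mul]
      simp only [mul_assoc]
  let g : Module.End (ZMod q) K.toSubmodule := c.restrict hcK
  by_cases hg : g = 1
  · intro a ha
    have h := congrArg Subtype.val (LinearMap.congr_fun hg ⟨τ a, Algebra.subset_adjoin ⟨a, ha, rfl⟩⟩)
    have h' : τ (x * (a * x⁻¹)) = τ a := by rw [map_mul, map_mul]; exact h
    have := hinj h'
    rw [← mul_assoc, mul_inv_eq_iff_eq_mul] at this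
    exact this
  · exfalso
    have hgr : g ^ r = 1 := by
      rw [Module.End.pow_restrict r]
      refine LinearMap.ext fun k => Subtype.ext ?_
      show (c ^ r) (k : Module.End (ZMod q) V) = k
      rw [hcpow, inv_pow, hx, inv_one, map_one, one_mul, mul_one]
    have hgap := fix_gap hrq hord g hgr hg
    have hpos : 0 < finrank (ZMod q) (LinearMap.ker (g - 1)) := by
      refine Nat.pos_of_ne_zero fun h => ?_
      have h1 : (⟨1, one_mem K⟩ : K.toSubmodule) ∈ LinearMap.ker (g - 1) := by
        rw [LinearMap.mem_ker, LinearMap.sub_apply, Module.End.one_apply, sub_eq_zero]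
        exact Subtype.ext hc1
      rw [Submodule.finrank_eq_zero.1 h, Submodule.mem_bot] at h1
      exact one_ne_zero (congrArg Subtype.val h1 : (1 : Module.End (ZMod q) V) = 0)
    omega

/-- Operators of coset representatives modulo the centre are linearly independent. -/
theorem operators_independent (τ : G →* Module.End (ZMod q) V) {P : Type*} [Group P] [Finite P] (ι : P →* G)
    (L : Subalgebra (ZMod q) (Module.End (ZMod q) V)) (hL : ∀ l ∈ L, l ≠ 0 → Function.Injective l)
    (hLc : ∀ l ∈ L, ∀ a : P, Commute l (τ (ι a))) (hLz : ∀ z ∈ center P, τ (ι z) ∈ L)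
    [Nontrivial V]
    (hcl : ∀ a b : P, a * b * a⁻¹ * b⁻¹ ∈ center P) (hinj : Function.Injective (τ.comp ι)) :
    LinearIndependent (ZMod q) fun w : P ⧸ center P => τ (ι w.out) := by
  classical
  haveI : Fintype (P ⧸ center P) := Fintype.ofFinite _
  set χ : P → (P ⧸ center P) → Module.End (ZMod q) V := fun b w => τ (ι (b * w.out * b⁻¹ * w.out⁻¹)) with hχ
  have hχL : ∀ b w, χ b w ∈ L := fun b w => hLz _ (hcl b w.out)
  have hinv : ∀ a : P, τ (ι a) * τ (ι a⁻¹) = 1 := fun a => by rw [← map_mul, ← map_mul, mul_inv_cancel, map_one, map_one]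
  have key : ∀ S : Finset (P ⧸ center P), ∀ l : (P ⧸ center P) → Module.End (ZMod q) V, (∀ w, l w ∈ L) →
      ∑ w ∈ S, l w * τ (ι w.out) = 0 → ∀ w ∈ S, l w = 0 := by
    intro S
    induction S using Finset.induction_on with
    | empty => intro l _ _ w hw; exact absurd hw (Finset.notMem_empty w)
    | @insert a S ha ih =>
      intro l hlL hsum
      have h0 : ∀ w ∈ S, l w = 0 := by
        intro w hw
        obtain ⟨b, hb⟩ : ∃ b, χ b w ≠ χ b a := by
          by_contra! hc
          refine (show w ≠ a from fun e => ha (e ▸ hw)) ?_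
          rw [← QuotientGroup.out_eq' w, ← QuotientGroup.out_eq' a, QuotientGroup.eq, mem_center_iff]
          intro b
          have h := (hinj (hc b) : b * w.out * b⁻¹ * w.out⁻¹ = b * a.out * b⁻¹ * a.out⁻¹)
          set u := w.out
          set t := a.out
          set z := b * u * b⁻¹ * u⁻¹ with hz
          have hzc : ∀ y, y * z = z * y := fun y => mem_center_iff.1 (hcl b u) y
          have h1 : b * u = z * u * b := by rw [hz]; group
          have h2 : b * t = z * t * b := by rw [h]; group
          have h3 : b * u⁻¹ = z⁻¹ * u⁻¹ * b := by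
            calc b * u⁻¹ = u⁻¹ * (u * b) * u⁻¹ := by group
              _ = u⁻¹ * z⁻¹ * (z * u * b) * u⁻¹ := by group
              _ = u⁻¹ * z⁻¹ * (b * u) * u⁻¹ := by rw [h1]
              _ = u⁻¹ * z⁻¹ * b := by group
              _ = z⁻¹ * u⁻¹ * b := by
                rw [(show Commute u⁻¹ z⁻¹ from (show Commute u z from hzc u).inv_inv).eq]
          calc b * (u⁻¹ * t) = (b * u⁻¹) * t := (mul_assoc _ _ _).symm
            _ = z⁻¹ * u⁻¹ * (b * t) := by rw [h3, mul_assoc (z⁻¹ * u⁻¹)]
            _ = z⁻¹ * (u⁻¹ * z) * t * b := by rw [h2]; simp only [mul_assoc]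
            _ = u⁻¹ * t * b := by rw [hzc u⁻¹]; group
        set l' : (P ⧸ center P) → Module.End (ZMod q) V := fun w => l w * (χ b w - χ b a) with hl'
        have hsum' : ∑ w ∈ S, l' w * τ (ι w.out) = 0 := by
          have e1 : ∑ w ∈ insert a S, l w * χ b w * τ (ι w.out) = 0 := by
            have h := congrArg (fun f => τ (ι b) * f * τ (ι b⁻¹)) hsum
            simp only [mul_zero, zero_mul, Finset.mul_sum, Finset.sum_mul] at h
            rw [← h]
            refine Finset.sum_congr rfl fun w _ => ?_
            rw [← mul_assoc (τ (ι b)), ← (hLc _ (hlL w) b).eq, hχ]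
            simp only [mul_assoc, ← map_mul]
            group
          have e2 : ∑ w ∈ insert a S, l w * χ b a * τ (ι w.out) = 0 := by
            have h := congrArg (fun f => χ b a * f) hsum
            simp only [mul_zero, Finset.mul_sum] at h
            rw [← h]
            refine Finset.sum_congr rfl fun w _ => ?_
            rw [← mul_assoc, ← (hLc _ (hlL w) _).eq]
          have e3 : ∑ w ∈ insert a S, l' w * τ (ι w.out) = 0 := by
            simp only [hl', mul_sub, sub_mul, Finset.sum_sub_distrib, e1, e2, sub_zero]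
          rwa [Finset.sum_insert ha, show l' a = 0 by simp [hl'], zero_mul, zero_add] at e3
        have hz := ih l' (fun w => L.mul_mem (hlL w) (L.sub_mem (hχL b w) (hχL b a))) hsum' w hw
        by_contra hlw
        refine sub_ne_zero.2 hb (LinearMap.ext fun v => hL _ (hlL w) hlw ?_)
        rw [LinearMap.zero_apply, map_zero, ← Module.End.mul_apply]
        exact LinearMap.congr_fun hz v
      intro w hw
      rcases Finset.mem_insert.1 hw with rfl | hw
      · rw [Finset.sum_insert ha, Finset.sum_eq_zero (fun w hw => by rw [h0 w hw, zero_mul]), add_zero] at hsum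
        have := congrArg (fun f => f * τ (ι w.out⁻¹)) hsum
        simp only [zero_mul, mul_assoc, hinv, mul_one] at this
        exact this
      · exact h0 w hw
  rw [Fintype.linearIndependent_iff]
  intro g hg w
  have := key Finset.univ (fun w => algebraMap (ZMod q) _ (g w)) (fun w => L.algebraMap_mem _)
    (by simpa [Algebra.smul_def] using hg) w (Finset.mem_univ w)
  exact (algebraMap (ZMod q) (Module.End (ZMod q) V)).injective (this.trans (map_zero _).symm)

/-- A non-degenerate alternating pairing with values in a cyclic group lives on a group of square order. -/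
theorem square_card {C : Type*} [CommGroup C] [Finite C] [IsCyclic C] {s : ℕ} [Fact s.Prime]
    (n : ℕ) : ∀ {W : Type*} [CommGroup W] [Finite W] (B : W →* W →* C), Nat.card W = n → (∀ w, B w w = 1) →
      (∀ w u, B w u ^ s = 1) → (∀ w, (∀ u, B w u = 1) → w = 1) → IsSquare (Nat.card W) := by
  induction n using Nat.strong_induction_on with
  | _ n ih =>
    intro W _ _ B hn halt hs hnd
    rcases subsingleton_or_nontrivial W with hW | hW
    · exact ⟨1, by rw [Nat.card_unique]⟩
    obtain ⟨a, ha⟩ := exists_ne (1 : W)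
    obtain ⟨b, hb⟩ : ∃ b, B a b ≠ 1 := by
      by_contra! hc
      exact ha (hnd a hc)
    set c := B a b with hc
    have hcs : orderOf c = s := orderOf_eq_prime (hs a b) hb
    have hswap : ∀ w u, B u w = (B w u)⁻¹ := by
      intro w u
      have h := halt (w * u)
      simp only [map_mul, MonoidHom.mul_apply, halt, one_mul, mul_one] at h
      first
      | exact eq_inv_of_mul_eq_one_left h
      | exact eq_inv_of_mul_eq_one_right h
    have hmem : ∀ z : C, z ^ s = 1 → z ∈ zpowers c := by
      intro z hz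
      classical
      haveI : Fintype C := Fintype.ofFinite C
      have hsub : Finset.univ.filter (fun y : C => y ∈ zpowers c) ⊆ Finset.univ.filter (fun y : C => y ^ s = 1) := by
        intro y hy
        simp only [Finset.mem_filter, Finset.mem_univ, true_and] at hy ⊢
        obtain ⟨i, rfl⟩ := hy
        rw [← zpow_natCast, zpow_comm, zpow_natCast, ← hcs, pow_orderOf_eq_one, one_zpow]
      have heq := Finset.eq_of_subset_of_card_le hsub ((IsCyclic.card_pow_eq_one_le (Fact.out : s.Prime).pos).trans
        (by rw [← Fintype.card_subtype, ← Nat.card_eq_fintype_card, Nat.card_zpowers, hcs]))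
      have hzmem : z ∈ Finset.univ.filter (fun y : C => y ∈ zpowers c) := by rw [heq]; simpa using hz
      simpa using hzmem
    let ψ : W →* zpowers c × zpowers c :=
      { toFun := fun w => (⟨B a w, hmem _ (hs a w)⟩, ⟨B w b, hmem _ (hs w b)⟩)
        map_one' := by simp
        map_mul' := fun u w => by simp }
    have hsurj : Function.Surjective ψ := by
      rintro ⟨⟨y, i, rfl⟩, ⟨z, j, rfl⟩⟩
      refine ⟨b ^ i * a ^ j, Prod.ext (Subtype.ext ?_) (Subtype.ext ?_)⟩ <;>
        simp [ψ, map_mul, map_zpow, halt, ← hc]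
    have hcard : Nat.card ψ.ker * (s * s) = Nat.card W := by
      have h := ψ.ker.card_mul_index
      rwa [Subgroup.index_ker, MonoidHom.range_eq_top.2 hsurj, Subgroup.card_top, Nat.card_prod, Nat.card_zpowers,
        hcs] at h
    have hlt : Nat.card ψ.ker < n := by
      rw [← hn, ← hcard]
      refine lt_mul_of_one_lt_right Nat.card_pos ?_
      have := (Fact.out : s.Prime).two_le
      nlinarith
    obtain ⟨t, ht⟩ := ih _ hlt (W := ψ.ker)
      { toFun := fun u => (B u).comp ψ.ker.subtype
        map_one' := by ext; simp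
        map_mul' := fun u w => by ext; simp }
      rfl (fun w => halt _) (fun w u => hs _ _) fun u hu => by
        obtain ⟨h1, h2⟩ : B a (u : W) = 1 ∧ B (u : W) b = 1 :=
          ⟨congrArg (fun p : zpowers c × zpowers c => (p.1 : C)) u.2,
            congrArg (fun p : zpowers c × zpowers c => (p.2 : C)) u.2⟩
        refine Subtype.ext (hnd _ fun w => ?_)
        obtain ⟨i, hi⟩ := (ψ w).1.2
        obtain ⟨j, hj⟩ := (ψ w).2.2
        have hk : (b ^ i * a ^ j)⁻¹ * w ∈ ψ.ker := by
          rw [MonoidHom.mem_ker, map_mul, map_inv, inv_mul_eq_one]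
          refine Prod.ext (Subtype.ext ?_) (Subtype.ext ?_) <;>
            simp [ψ, map_mul, map_zpow, halt, ← hc] <;> [exact hi; exact hj]
        have h3 := hu ⟨_, hk⟩
        change B (u : W) ((b ^ i * a ^ j)⁻¹ * w) = 1 at h3
        rwa [map_mul, map_inv, map_mul, map_zpow, map_zpow, h2, hswap a (u : W), h1, inv_one, one_zpow, one_zpow,
          one_mul, inv_one, one_mul] at h3
    exact ⟨t * s, by rw [← hcard, ht]; ring⟩

end Cfsg.Lib.SolvableTransitive
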