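import Mathlib
import Cfsg.Agent.LinearPerm.SolvableTransitive.Basic
import Cfsg.Agent.Coprime.Fitting

/-!
Solvable transitive linear groups with a primitive prime divisor: an irreducible cyclic normal subgroup, or the
divisor is `n + 1` and occurs only once in the group order.
-/

set_option autoImplicit false
set_option linter.style.haveILetI false
set_option linter.unusedSectionVars false

namespace Cfsg.Lib.SolvableTransitive

open scoped commutatorElement

open Module Subgroup Cfsg.Lib.Components Cfsg.Lib.Coprime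

variable {q : ℕ} [Fact q.Prime] {V : Type*} [AddCommGroup V] [Module (ZMod q) V] [Finite V] [Nontrivial V]
  {G : Type*} [Group G] [Finite G] {τ : G →* Module.End (ZMod q) V}

theorem card_dvd (htr : ∀ v w : V, v ≠ 0 → w ≠ 0 → ∃ g : G, τ g v = w) :
    q ^ finrank (ZMod q) V - 1 ∣ Nat.card G := by
  classical
  letI : MulAction G {v : V // v ≠ 0} :=
    { smul := fun g v => ⟨τ g v, fun h => v.2 (tau_injective τ g (h.trans (map_zero _).symm))⟩
      one_smul := fun v => Subtype.ext (show τ 1 _ = _ by rw [map_one]; rfl)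
      mul_smul := fun a b v => Subtype.ext (show τ (a * b) _ = _ by rw [map_mul]; rfl) }
  haveI : MulAction.IsPretransitive G {v : V // v ≠ 0} := ⟨fun v w => by
    obtain ⟨g, hg⟩ := htr v w v.2 w.2
    exact ⟨g, Subtype.ext hg⟩⟩
  obtain ⟨v, hv⟩ := exists_ne (0 : V)
  have h := (MulAction.stabilizer G (⟨v, hv⟩ : {v : V // v ≠ 0})).index_dvd_card
  haveI : Fintype V := Fintype.ofFinite _
  rwa [MulAction.index_stabilizer_of_transitive, Nat.card_eq_fintype_card (α := {v : V // v ≠ 0}),
    Fintype.card_subtype_compl, Fintype.card_subtype_eq, ← Nat.card_eq_fintype_card,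
    Module.natCard_eq_pow_finrank (K := ZMod q) (V := V), Nat.card_zmod] at h

theorem pCore_self_eq_bot (hinj : Function.Injective τ)
    (htr : ∀ v w : V, v ≠ 0 → w ≠ 0 → ∃ g : G, τ g v = w) : pCore q G = ⊥ := by
  classical
  set Q := pCore q G
  letI : MulAction Q V :=
    { smul := fun g v => τ g v
      one_smul := fun v => show τ ((1 : Q) : G) v = v by rw [Subgroup.coe_one, map_one]; rfl
      mul_smul := fun a b v => show τ ((a * b : Q) : G) v = _ by rw [Subgroup.coe_mul, map_mul]; rfl }
  have h0 : (0 : V) ∈ MulAction.fixedPoints Q V := fun g => map_zero (τ g)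
  have hdvd : q ∣ Nat.card V := by
    rw [Module.natCard_eq_pow_finrank (K := ZMod q) (V := V), Nat.card_zmod]
    exact dvd_pow_self _ Module.finrank_pos.ne'
  obtain ⟨v, hv, hv0⟩ := (isPGroup_pCore (G := G) q).exists_fixed_point_of_prime_dvd_card_of_fixed_point V hdvd h0
  refine (Subgroup.eq_bot_iff_forall _).2 fun a ha => hinj ?_
  rw [map_one]
  refine LinearMap.ext fun w => ?_
  rcases eq_or_ne w 0 with rfl | hw
  · simp
  obtain ⟨g, rfl⟩ := htr v w (Ne.symm hv0) hw
  have hc : g⁻¹ * a * g ∈ Q := by simpa using (inferInstance : Q.Normal).conj_mem a ha g⁻¹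
  have hfix : τ (g⁻¹ * a * g) v = v := hv ⟨_, hc⟩
  rw [Module.End.one_apply]
  calc τ a (τ g v) = τ (g * (g⁻¹ * a * g)) v := by rw [← Module.End.mul_apply, ← map_mul]; group
    _ = τ g v := by rw [map_mul, Module.End.mul_apply, hfix]

theorem commute_fitting {x : G} (h : ∀ s : ℕ, s.Prime → ∀ a ∈ pCore s G, Commute x a) :
    x ∈ centralizer (fittingSubgroup G : Set G) := by
  rw [mem_centralizer_iff]
  intro y hy
  have hle : fittingSubgroup G ≤ centralizer {x} := by
    rw [fitting_eq_iSup_pCore]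
    exact iSup_le fun s a ha => mem_centralizer_singleton_iff.2 (h s.1 s.2 a ha).eq.symm
  exact mem_centralizer_singleton_iff.1 (hle hy)

/-- The centre of the Fitting subgroup, as a subgroup of the group. -/
def zFit (G : Type*) [Group G] : Subgroup G := fittingSubgroup G ⊓ centralizer (fittingSubgroup G : Set G)

instance zFit_normal : (zFit G).Normal := by
  unfold zFit
  infer_instance

theorem zFit_comm : ∀ a ∈ zFit G, ∀ b ∈ zFit G, a * b = b * a :=
  fun a ha b hb => mem_centralizer_iff.1 hb.2 a ha.1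

theorem mem_zFit [Group.IsSolvable G] {x : G} (h : ∀ s : ℕ, s.Prime → ∀ a ∈ pCore s G, Commute x a) :
    x ∈ zFit G :=
  ⟨centralizer_fitting_le (commute_fitting h), commute_fitting h⟩

/-- Coprime action trick: a conjugate differing by a fixed element is equal. -/
theorem commute_of_twist {r s : ℕ} [Fact s.Prime] [Fact r.Prime] (hsr : s ≠ r) {x a d : G} (hx : x ^ r = 1)
    (hd : IsPGroup s (zpowers d)) (h : x * a * x⁻¹ = a * d) (hxd : Commute x d) : Commute x a := by
  have hi : ∀ i : ℕ, x ^ i * a * (x ^ i)⁻¹ = a * d ^ i := by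
    intro i
    induction i with
    | zero => simp
    | succ i ih =>
      calc x ^ (i + 1) * a * (x ^ (i + 1))⁻¹ = x * (x ^ i * a * (x ^ i)⁻¹) * x⁻¹ := by rw [pow_succ']; group
        _ = (x * a * x⁻¹) * (x * d ^ i * x⁻¹) := by rw [ih]; group
        _ = a * d ^ (i + 1) := by
          rw [h, (hxd.pow_right i).eq, mul_inv_cancel_right, mul_assoc, ← pow_succ']
  have h1 := hi r
  rw [hx, one_mul, inv_one, mul_one, left_eq_mul] at h1
  obtain ⟨k, hk⟩ := hd ⟨d, mem_zpowers d⟩
  have h2 : d ^ s ^ k = 1 := congrArg Subtype.val hk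
  have hd1 : d = 1 := by
    rw [← orderOf_eq_one_iff]
    exact Nat.eq_one_of_dvd_coprimes
      (Nat.Coprime.pow_left k ((Nat.coprime_primes Fact.out Fact.out).2 hsr))
      (orderOf_dvd_of_pow_eq_one h2) (orderOf_dvd_of_pow_eq_one h1)
  rw [hd1, mul_one, mul_inv_eq_iff_eq_mul] at h
  exact h

set_option maxHeartbeats 800000 in
theorem general [Group.IsSolvable G] (hinj : Function.Injective τ)
    (htr : ∀ v w : V, v ≠ 0 → w ≠ 0 → ∃ g : G, τ g v = w) (hn : 2 ≤ finrank (ZMod q) V) {r : ℕ}
    [hrf : Fact r.Prime] (hdvd : r ∣ q ^ finrank (ZMod q) V - 1)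
    (hppd : ∀ k, 0 < k → k < finrank (ZMod q) V → ¬ r ∣ q ^ k - 1) :
    (∃ A : Subgroup G, A.Normal ∧ IsCyclic A ∧ Irr (τ '' (A : Set G))) ∨
      (Odd q ∧ r = finrank (ZMod q) V + 1 ∧ ¬ r ^ 2 ∣ Nat.card G ∧ ∃ m, finrank (ZMod q) V = 2 ^ m) := by
  classical
  set n := finrank (ZMod q) V
  have hq : q.Prime := Fact.out
  have hr : r.Prime := Fact.out
  have hord : ∀ d, r ∣ q ^ d - 1 → d = 0 ∨ n ≤ d := by
    intro d hd
    by_contra! h
    exact hppd d (Nat.pos_of_ne_zero h.1) h.2 hd
  have hrq : r ≠ q := by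
    rintro rfl
    have h1 : r ∣ r ^ n := dvd_pow_self _ (by omega)
    have h2 := Nat.dvd_sub h1 hdvd
    rw [Nat.sub_sub_self (Nat.one_le_pow _ _ hr.pos)] at h2
    exact hr.one_lt.ne' (Nat.dvd_one.1 h2)
  have hnr : n < r := by
    have hne : ((q : ZMod r)) ≠ 0 := fun h => hrq
      ((Nat.prime_dvd_prime_iff_eq hr hq).1 ((ZMod.natCast_eq_zero_iff _ _).1 h))
    have h := ZMod.pow_card_sub_one_eq_one hne
    have h2 : r ∣ q ^ (r - 1) - 1 := by
      rw [← ZMod.natCast_eq_zero_iff, Nat.cast_sub (Nat.one_le_pow _ _ hq.pos), Nat.cast_pow, h,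
        Nat.cast_one, sub_self]
    rcases hord _ h2 with h3 | h3 <;> have := hr.two_le <;> omega
  have hrG : r ∣ Nat.card G := hdvd.trans (card_dvd htr)
  -- a Sylow subgroup and a central element of order r
  set R : Sylow r G := default
  haveI : Nontrivial R := by
    obtain ⟨x, hx⟩ := exists_prime_orderOf_dvd_card' r hrG
    refine (Subgroup.nontrivial_iff_ne_bot _).2 (R.ne_bot_of_dvd_card hrG)
  haveI : Nontrivial (center R) := R.2.center_nontrivial
  obtain ⟨x₀, hx₀⟩ : ∃ x₀ : center R, orderOf x₀ = r := by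
    apply exists_prime_orderOf_dvd_card'
    obtain ⟨k, hk⟩ := IsPGroup.iff_card.1 (R.2.to_subgroup (center R))
    have := Finite.one_lt_card (α := center R)
    rw [hk] at this ⊢
    exact dvd_pow_self _ fun h => by rw [h] at this; simp at this
  set x : G := ((x₀ : R) : G)
  have hxo : orderOf x = r := by rw [← hx₀, ← Subgroup.orderOf_coe x₀, ← Subgroup.orderOf_coe (x₀ : R)]
  have hxr : x ^ r = 1 := by rw [← hxo]; exact pow_orderOf_eq_one x
  have hx1 : x ≠ 1 := fun h => by rw [h, orderOf_one] at hxo; exact hr.one_lt.ne hxo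
  have hxR : x ∈ (R : Subgroup G) := (x₀ : R).2
  have hRx : ∀ y ∈ (R : Subgroup G), Commute x y := fun y hy =>
    (congrArg Subtype.val (mem_center_iff.1 x₀.2 ⟨y, hy⟩)).symm
  obtain ⟨-, hirr⟩ := irr_of_order (V := V) hrq hord (f := τ x) (by rw [← map_pow, hxr, map_one])
    fun h => hx1 (hinj (h.trans (map_one τ).symm))
  have hcyc : ∀ {P : Subgroup G}, (∀ a ∈ P, Commute x a) → IsCyclic P := fun {P} h =>
    cyclic_of_commute hirr (τ.comp P.subtype) (hinj.comp P.subtype_injective)
      fun a s hs => by rw [Set.mem_singleton_iff.1 hs]; exact ((h a a.2).map τ).symm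
  have hRcyc : IsCyclic (R : Subgroup G) := hcyc hRx
  by_cases hall : ∀ s : ℕ, s.Prime → ∀ a ∈ pCore s G, Commute x a
  · refine Or.inl ⟨zFit G, inferInstance,
      cyclic_of_semi τ zFit_comm (semi_of_normal τ hinj htr _ zFit_comm), fun W hW => ?_⟩
    refine hirr W ?_
    rintro f rfl v hv
    exact hW _ ⟨x, mem_zFit hall, rfl⟩ v hv
  right
  push Not at hall
  obtain ⟨s, hs, a₀, ha₀, hna₀⟩ := hall
  haveI : Fact s.Prime := ⟨hs⟩
  have hsq : s ≠ q := by
    rintro rfl
    rw [pCore_self_eq_bot hinj htr, mem_bot] at ha₀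
    exact hna₀ (ha₀ ▸ Commute.one_right x)
  have hsr : s ≠ r := by
    rintro rfl
    exact hna₀ (hRx a₀ (pCore_le_sylow s R ha₀))
  -- minimal R-invariant subgroup not centralised by x
  obtain ⟨P, -, ⟨hPO, hPR, hPx⟩, hmin⟩ := Finite.exists_le_minimal
    (p := fun P : Subgroup G => P ≤ pCore s G ∧ (∀ y ∈ (R : Subgroup G), ∀ a ∈ P, y * a * y⁻¹ ∈ P) ∧
      ¬ ∀ a ∈ P, Commute x a)
    (a := pCore s G) ⟨le_rfl, fun y _ a ha => (inferInstance : (pCore s G).Normal).conj_mem a ha y,
      fun h => hna₀ (h a₀ ha₀)⟩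
  have hsmall : ∀ Q : Subgroup G, Q ≤ P → (∀ y ∈ (R : Subgroup G), ∀ a ∈ Q, y * a * y⁻¹ ∈ Q) → Q ≠ P →
      ∀ a ∈ Q, Commute x a := by
    intro Q hQ hQR hne
    by_contra h
    exact hne (le_antisymm hQ (hmin ⟨hQ.trans hPO, hQR, h⟩ hQ))
  have hPp : IsPGroup s P := (isPGroup_pCore s).to_le hPO
  obtain ⟨eP, heP⟩ := IsPGroup.iff_card.1 hPp
  have hco : (Nat.card P).Coprime q := by
    rw [heP]; exact Nat.Coprime.pow_left _ ((Nat.coprime_primes hs hq).2 hsq)
  -- the commutators are centralised
  have hcommx : ∀ a ∈ ⁅P, P⁆, Commute x a := by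
    refine hsmall _ (commutator_le.2 fun a ha b hb => P.mul_mem (P.mul_mem (P.mul_mem ha hb) (P.inv_mem ha))
      (P.inv_mem hb)) (fun y hy a ha => ?_) ?_
    · have hm : P.map (MulAut.conj y).toMonoidHom ≤ P := by
        rintro _ ⟨b, hb, rfl⟩; exact hPR y hy b hb
      have h' : y * a * y⁻¹ ∈ ⁅P, P⁆.map (MulAut.conj y).toMonoidHom := ⟨a, ha, rfl⟩
      rw [map_commutator] at h'
      exact commutator_mono hm hm h'
    · haveI : Group.IsSolvable P := inferInstance
      exact (Group.IsSolvable.commutator_lt_of_ne_bot fun h => hPx fun a ha => by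
        rw [h, mem_bot] at ha; rw [ha]; exact Commute.one_right x).ne
  -- the elements of P fixed by x are central in P
  set Cx := P ⊓ centralizer ({x} : Set G) with hCx
  have hmemC : ∀ {a : G}, a ∈ Cx ↔ a ∈ P ∧ Commute x a := fun {a} => by
    rw [hCx, Subgroup.mem_inf, mem_centralizer_singleton_iff]
    exact and_congr_right fun _ => ⟨fun h => h.symm, fun h => h.symm⟩
  have hCR : ∀ y ∈ (R : Subgroup G), ∀ a ∈ Cx, y * a * y⁻¹ ∈ Cx := by
    intro y hy a ha
    obtain ⟨haP, hax⟩ := hmemC.1 ha
    exact hmemC.2 ⟨hPR y hy a haP, ((hRx y hy).mul_right hax).mul_right (hRx y hy).inv_right⟩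
  set M := P ⊓ centralizer (Cx : Set G) with hM
  have hMP : M = P := by
    by_contra hne
    have hMx := hsmall M inf_le_left (fun y hy a ha => ⟨hPR y hy a ha.1, mem_centralizer_iff.2 fun c hc => by
      have h1 := mem_centralizer_iff.1 ha.2 (y⁻¹ * c * y)
        (by simpa using hCR y⁻¹ ((R : Subgroup G).inv_mem hy) c hc)
      calc c * (y * a * y⁻¹) = y * ((y⁻¹ * c * y) * a) * y⁻¹ := by group
        _ = y * (a * (y⁻¹ * c * y)) * y⁻¹ := by rw [h1]
        _ = y * a * y⁻¹ * c := by group⟩) hne
    refine hPx fun a ha => ?_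
    set b := x * a * x⁻¹ with hb
    have hbP : b ∈ P := hPR x hxR a ha
    have hd : a⁻¹ * b ∈ M := by
      refine ⟨P.mul_mem (P.inv_mem ha) hbP, mem_centralizer_iff.2 fun c hc => ?_⟩
      obtain ⟨hcP, hcx⟩ := hmemC.1 hc
      have h1 := hcommx _ (commutator_mem_commutator hcP ha)
      have e : x * ⁅c, a⁆ * x⁻¹ = c * b * c⁻¹ * b⁻¹ := by
        have ec : x * c * x⁻¹ = c := by rw [hcx.eq, mul_inv_cancel_right]
        calc x * ⁅c, a⁆ * x⁻¹
            = (x * c * x⁻¹) * b * (x * c * x⁻¹)⁻¹ * b⁻¹ := by rw [hb, commutatorElement_def]; group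
          _ = c * b * c⁻¹ * b⁻¹ := by rw [ec]
      rw [h1.eq, mul_inv_cancel_right, commutatorElement_def] at e
      have h2 : a * c * a⁻¹ = b * c * b⁻¹ := by
        calc a * c * a⁻¹ = (c * a * c⁻¹ * a⁻¹)⁻¹ * c := by group
          _ = (c * b * c⁻¹ * b⁻¹)⁻¹ * c := by rw [e]
          _ = b * c * b⁻¹ := by group
      calc c * (a⁻¹ * b) = a⁻¹ * (a * c * a⁻¹) * b := by group
        _ = a⁻¹ * b * c := by rw [h2]; group
    exact commute_of_twist hsr hxr (hPp.to_le (zpowers_le.2 (P.mul_mem (P.inv_mem ha) hbP)))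
      (by rw [← hb]; group) (hMx _ hd)
  have hCcentral : ∀ c ∈ Cx, ∀ a ∈ P, c * a = a * c := by
    intro c hc a ha
    rw [← hMP] at ha
    exact mem_centralizer_iff.1 ha.2 c hc
  -- the centre of P
  have hZx : ∀ z : P, z ∈ center P ↔ Commute x (z : G) := by
    intro z
    refine ⟨fun hz => hsmall (P ⊓ centralizer (P : Set G)) inf_le_left (fun y hy a ha => ⟨hPR y hy a ha.1,
      mem_centralizer_iff.2 fun c hc => ?_⟩) (fun h => hPx (commute_of_abelian hrq hord τ hinj hxr
        (fun a ha b hb => by rw [← h] at hb; exact mem_centralizer_iff.1 hb.2 a ha) hco (hPR x hxR)))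
      z ⟨z.2, mem_centralizer_iff.2 fun c hc => congrArg Subtype.val (mem_center_iff.1 hz ⟨c, hc⟩)⟩,
      fun hz => mem_center_iff.2 fun b => Subtype.ext (hCcentral _ (hmemC.2 ⟨z.2, hz⟩) b b.2).symm⟩
    have h1 := mem_centralizer_iff.1 ha.2 (y⁻¹ * c * y)
      (by simpa using hPR y⁻¹ ((R : Subgroup G).inv_mem hy) c hc)
    calc c * (y * a * y⁻¹) = y * ((y⁻¹ * c * y) * a) * y⁻¹ := by group
      _ = y * (a * (y⁻¹ * c * y)) * y⁻¹ := by rw [h1]
      _ = y * a * y⁻¹ * c := by group
  have hcl : ∀ a b : P, a * b * a⁻¹ * b⁻¹ ∈ center P := fun a b =>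
    (hZx _).2 (hcommx _ (commutator_mem_commutator a.2 b.2))
  set W := P ⧸ center P
  letI : CommGroup W :=
    { (inferInstance : Group W) with
      mul_comm := fun u w => by
        induction u using QuotientGroup.induction_on with
        | H a =>
          induction w using QuotientGroup.induction_on with
          | H b =>
            rw [← QuotientGroup.mk_mul, ← QuotientGroup.mk_mul, QuotientGroup.eq]
            have := hcl b⁻¹ a⁻¹
            simpa [mul_assoc] using this }
  haveI hWnt : Nontrivial W := by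
    rcases subsingleton_or_nontrivial W with h | h
    · refine absurd (fun a ha => (hZx ⟨a, ha⟩).1 ?_) hPx
      exact (QuotientGroup.eq_one_iff _).1 (Subsingleton.elim _ _)
    · exact h
  obtain ⟨k, hk⟩ := IsPGroup.iff_card.1 (hPp.to_quotient (center P))
  have hk0 : k ≠ 0 := by
    intro h
    have := Finite.one_lt_card (α := W)
    rw [hk, h, pow_zero] at this
    exact lt_irrefl 1 this
  -- s-th powers are central
  have hpow : ∀ a : P, a ^ s ∈ center P := by
    set S := ((powMonoidHom s : W →* W).range.comap (QuotientGroup.mk' (center P))).map P.subtype with hS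
    have hS' : ∀ a, a ∈ S ↔ ∃ b z : P, z ∈ center P ∧ a = ((b : G) ^ s * z) := by
      intro a
      simp only [hS, Subgroup.mem_map, Subgroup.mem_comap, MonoidHom.mem_range, powMonoidHom_apply,
        QuotientGroup.mk'_apply, Subgroup.coe_subtype]
      constructor
      · rintro ⟨c, ⟨w, hw⟩, rfl⟩
        induction w using QuotientGroup.induction_on with
        | H b =>
          rw [← QuotientGroup.mk_pow, QuotientGroup.eq] at hw
          exact ⟨b, _, hw, by simp⟩
      · rintro ⟨b, z, hz, rfl⟩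
        exact ⟨b ^ s * z, ⟨b, by rw [QuotientGroup.mk_mul, QuotientGroup.mk_pow, (QuotientGroup.eq_one_iff z).2 hz,
          mul_one]⟩, by simp⟩
    have hSP : S ≤ P := by
      intro a ha
      obtain ⟨b, z, -, rfl⟩ := (hS' a).1 ha
      exact P.mul_mem (P.pow_mem b.2 s) z.2
    have hSne : S ≠ P := by
      intro h
      obtain ⟨w, hw⟩ := exists_prime_orderOf_dvd_card' (G := W) s (by rw [hk]; exact dvd_pow_self _ hk0)
      have hsurj : Function.Surjective (powMonoidHom s : W →* W) := by
        intro u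
        induction u using QuotientGroup.induction_on with
        | H a =>
          obtain ⟨b, z, hz, hab⟩ := (hS' (a : G)).1 (h.symm ▸ a.2)
          refine ⟨b, ?_⟩
          rw [show a = b ^ s * z from Subtype.ext (by simpa using hab)]
          rw [powMonoidHom_apply, QuotientGroup.mk_mul, QuotientGroup.mk_pow, (QuotientGroup.eq_one_iff z).2 hz,
            mul_one]
      have hw1 : w = 1 := (Finite.injective_iff_surjective.2 hsurj)
        (show w ^ s = (1 : W) ^ s by rw [one_pow, ← hw, pow_orderOf_eq_one])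
      rw [hw1, orderOf_one] at hw
      exact hs.one_lt.ne hw
    intro a
    refine (hZx _).2 (hsmall S hSP (fun y hy c hc => ?_) hSne _ ((hS' _).2 ⟨a, 1, one_mem _, by simp⟩))
    obtain ⟨b, z, hz, rfl⟩ := (hS' c).1 hc
    refine (hS' _).2 ⟨⟨_, hPR y hy b b.2⟩, ⟨_, hPR y hy z z.2⟩, (hZx _).2
      (((hRx y hy).mul_right ((hZx z).1 hz)).mul_right (hRx y hy).inv_right), ?_⟩
    show y * ((b : G) ^ s * z) * y⁻¹ = (y * b * y⁻¹) ^ s * (y * z * y⁻¹)
    rw [conj_pow]
    group
  -- operator bound
  let L : Subalgebra (ZMod q) (Module.End (ZMod q) V) :=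
    Subalgebra.centralizer (ZMod q) ({τ x} ∪ τ '' (P : Set G))
  haveI : Finite (Module.End (ZMod q) V) := finite_end
  have hind := operators_independent τ P.subtype L
    (fun l hl h0 => inj_of_commute hirr h0 fun t ht =>
      ((Subalgebra.mem_centralizer_iff _).1 hl t (Or.inl ht)).symm)
    (fun l hl a => ((Subalgebra.mem_centralizer_iff _).1 hl _ (Or.inr ⟨a, a.2, rfl⟩)).symm)
    (fun z hz => (Subalgebra.mem_centralizer_iff _).2 (by
      rintro t (rfl | ⟨a, ha, rfl⟩)
      · exact (((hZx z).1 hz).map τ).eq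
      · rw [← map_mul, ← map_mul]
        exact congrArg τ (congrArg Subtype.val (mem_center_iff.1 hz ⟨a, ha⟩))))
    hcl (hinj.comp P.subtype_injective)
  haveI : Fintype W := Fintype.ofFinite W
  have hWn : Nat.card W ≤ n * n := by
    rw [Nat.card_eq_fintype_card]
    exact hind.fintype_card_le_finrank.trans (le_of_eq (Module.finrank_linearMap (ZMod q) (ZMod q) V V))
  -- commutator pairing
  have hZcyc : IsCyclic (center P) :=
    cyclic_of_commute hirr (τ.comp (P.subtype.comp (center P).subtype))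
      ((hinj.comp P.subtype_injective).comp (center P).subtype_injective)
      fun z t ht => by rw [Set.mem_singleton_iff.1 ht]; exact (((hZx z).1 z.2).map τ).symm
  letI : CommGroup (center P) :=
    { (inferInstance : Group (center P)) with mul_comm := fun a b => Subtype.ext (mem_center_iff.1 b.2 a) }
  let β : P → P → center P := fun a b => ⟨a * b * a⁻¹ * b⁻¹, hcl a b⟩
  have hcz : ∀ z : center P, ∀ a : P, a * (z : P) = z * a := fun z a => mem_center_iff.1 z.2 a
  have hβ : ∀ a b c : P, β a (b * c) = β a b * β a c := fun a b c => Subtype.ext (by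
    show a * (b * c) * a⁻¹ * (b * c)⁻¹ = (a * b * a⁻¹ * b⁻¹) * (β a c : P)
    calc a * (b * c) * a⁻¹ * (b * c)⁻¹ = (a * b * a⁻¹) * (β a c : P) * b⁻¹ := by simp only [β]; group
      _ = a * b * a⁻¹ * b⁻¹ * (b * (β a c : P)) * b⁻¹ := by group
      _ = a * b * a⁻¹ * b⁻¹ * (β a c : P) := by rw [hcz (β a c) b]; group)
  have hβ' : ∀ a b : P, β b a = (β a b)⁻¹ := fun a b => Subtype.ext (by simp only [β, Subgroup.coe_inv]; group)
  have hβl : ∀ a b c : P, β (a * b) c = β a c * β b c := fun a b c => by
    rw [hβ' c (a * b), hβ, mul_inv, ← hβ', ← hβ']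
  have hβz : ∀ a z : P, z ∈ center P → β a z = 1 := fun a z hz => Subtype.ext (by
    show a * z * a⁻¹ * z⁻¹ = 1
    rw [mem_center_iff.1 hz a]; group)
  let Bh : P → (W →* center P) := fun a => QuotientGroup.lift (center P)
    (MonoidHom.mk' (β a) (hβ a)) (fun z hz => hβz a z hz)
  let B : W →* W →* center P := QuotientGroup.lift (center P)
    (MonoidHom.mk' Bh fun a b => MonoidHom.ext fun w => by
      induction w using QuotientGroup.induction_on with | H c => exact hβl a b c)
    (fun z hz => MonoidHom.ext fun w => by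
      induction w using QuotientGroup.induction_on with
      | H c =>
        show β z c = 1
        rw [hβ' c z, hβz c z hz, inv_one])
  obtain ⟨t, ht⟩ := square_card (C := center P) (s := s) _ B rfl
    (fun w => by
      induction w using QuotientGroup.induction_on with
      | H a => exact Subtype.ext (show a * a * a⁻¹ * a⁻¹ = 1 by group))
    (fun w u => by
      induction w using QuotientGroup.induction_on with
      | H a =>
        induction u using QuotientGroup.induction_on with
        | H b =>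
          show β a b ^ s = 1
          rw [← show MonoidHom.mk' (β a) (hβ a) b = β a b from rfl, ← map_pow]
          exact hβz a _ (hpow b))
    (fun w hw => by
      induction w using QuotientGroup.induction_on with
      | H a =>
        refine (QuotientGroup.eq_one_iff a).2 (mem_center_iff.2 fun b => ?_)
        have h := congrArg Subtype.val (hw (b : W))
        change a * b * a⁻¹ * b⁻¹ = (1 : P) at h
        rw [mul_inv_eq_one, mul_inv_eq_iff_eq_mul] at h
        exact h.symm)
  rw [hk] at ht hWn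
  obtain ⟨m, -, hm⟩ := (Nat.dvd_prime_pow hs).1 (Dvd.intro t ht.symm)
  -- free action
  let cj : ∀ y : (R : Subgroup G), P →* P := fun y =>
    MonoidHom.mk' (fun a => ⟨(y : G) * a * (y : G)⁻¹, hPR y y.2 a a.2⟩)
      fun a b => Subtype.ext (by simp only [Subgroup.coe_mul]; group)
  have hcjz : ∀ y, center P ≤ (center P).comap (cj y) := fun y z hz =>
    (hZx _).2 (((hRx y y.2).mul_right ((hZx z).1 hz)).mul_right (hRx y y.2).inv_right)
  letI : MulAction (R : Subgroup G) {w : W // w ≠ 1} :=
    { smul := fun y w => ⟨QuotientGroup.map (center P) (center P) (cj y) (hcjz y) w.1, fun h => w.2 (by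
        obtain ⟨w, _⟩ := w
        induction w using QuotientGroup.induction_on with
        | H a =>
          refine (QuotientGroup.eq_one_iff a).2 ((hZx a).2 ?_)
          have h' : Commute x ((y : G) * a * (y : G)⁻¹) := (hZx _).1 ((QuotientGroup.eq_one_iff _).1 h)
          have h'' := ((hRx y y.2).inv_right.mul_right h').mul_right (hRx y y.2)
          simpa [mul_assoc] using h'')⟩
      one_smul := fun w => Subtype.ext (by
        obtain ⟨w, _⟩ := w
        induction w using QuotientGroup.induction_on with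
        | H a => exact congrArg QuotientGroup.mk (Subtype.ext (by simp [cj])))
      mul_smul := fun y z w => Subtype.ext (by
        obtain ⟨w, _⟩ := w
        induction w using QuotientGroup.induction_on with
        | H a => exact congrArg QuotientGroup.mk (Subtype.ext (by simp [cj, mul_assoc]))) }
  have hfree := card_dvd_of_free (P := (R : Subgroup G)) (X := {w : W // w ≠ 1}) fun w => by
    by_contra hne
    have hxmem : (⟨x, hxR⟩ : (R : Subgroup G)) ∈ MulAction.stabilizer (R : Subgroup G) w := by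
      obtain ⟨j, hj⟩ := IsPGroup.iff_card.1 (R.2.to_subgroup (MulAction.stabilizer (R : Subgroup G) w))
      have hj0 : j ≠ 0 := fun h => hne (eq_bot_of_card_eq _ (by rw [hj, h, pow_zero]))
      obtain ⟨y, hy⟩ := exists_prime_orderOf_dvd_card' (G := MulAction.stabilizer (R : Subgroup G) w) r
        (by rw [hj]; exact dvd_pow_self _ hj0)
      haveI := hRcyc
      haveI : Fintype (R : Subgroup G) := Fintype.ofFinite _
      set u : (R : Subgroup G) := (y : (R : Subgroup G))
      set x' : (R : Subgroup G) := ⟨x, hxR⟩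
      have hu : orderOf u = r := by rw [Subgroup.orderOf_coe]; exact hy
      have hsub : Finset.univ.filter (fun z => z ∈ zpowers u) ⊆
          Finset.univ.filter (fun z : (R : Subgroup G) => z ^ r = 1) := by
        intro z hz
        simp only [Finset.mem_filter, Finset.mem_univ, true_and] at hz ⊢
        obtain ⟨i, rfl⟩ := hz
        rw [← zpow_natCast, zpow_comm, zpow_natCast, show u ^ r = 1 from orderOf_dvd_iff_pow_eq_one.1 (dvd_of_eq hu),
          one_zpow]
      have heq := Finset.eq_of_subset_of_card_le hsub ((IsCyclic.card_pow_eq_one_le hr.pos).trans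
        (by rw [← Fintype.card_subtype, ← Nat.card_eq_fintype_card, Nat.card_zpowers, hu]))
      have hxm : x' ∈ Finset.univ.filter (fun z => z ∈ zpowers u) := by
        rw [heq]; simp only [Finset.mem_filter, Finset.mem_univ, true_and]; exact Subtype.ext hxr
      exact zpowers_le.2 y.2 (Finset.mem_filter.1 hxm).2
    obtain ⟨w, hw⟩ := w
    induction w using QuotientGroup.induction_on with
    | H a =>
      have h := congrArg Subtype.val (MulAction.mem_stabilizer_iff.1 hxmem)
      change ((cj ⟨x, hxR⟩ a : P) : W) = (a : W) at h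
      have hd : Commute x ((a⁻¹ * cj ⟨x, hxR⟩ a : P) : G) := (hZx _).1 (QuotientGroup.eq.1 h.symm)
      refine hw ((QuotientGroup.eq_one_iff a).2 ((hZx a).2 (commute_of_twist hsr hxr
        (hPp.to_le (zpowers_le.2 (a⁻¹ * cj ⟨x, hxR⟩ a).2)) ?_ hd)))
      simp [cj]
  rw [Nat.card_eq_fintype_card (α := {w : W // w ≠ 1}), Fintype.card_subtype_compl, Fintype.card_subtype_eq,
    ← Nat.card_eq_fintype_card (α := W), hk] at hfree
  have hrR : r ∣ Nat.card (R : Subgroup G) :=
    (dvd_of_eq hxo.symm).trans (Subgroup.orderOf_dvd_natCard _ hxR)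
  have hk2 : s ^ k = t * t := ht
  rw [hm] at hk2
  have hm0 : m ≠ 0 := fun h => hk0 (by
    rw [h, pow_zero, one_mul] at hk2
    exact (pow_eq_one_iff.1 hk2).resolve_left hs.one_lt.ne')
  have hsmn : s ^ m ≤ n := by nlinarith
  have hsm2 : 2 ≤ s ^ m := le_trans hs.two_le (Nat.le_self_pow hm0 s)
  have hfac : s ^ k - 1 = (s ^ m + 1) * (s ^ m - 1) := by
    rw [hk2]
    have := Nat.sq_sub_sq (s ^ m) 1
    rw [sq, one_pow] at this
    exact this
  rw [hfac] at hfree
  have hr1 : r ∣ s ^ m + 1 := ((Nat.Prime.dvd_mul hr).1 (hrR.trans hfree)).resolve_right fun h => by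
    have := Nat.le_of_dvd (by omega) h
    omega
  have hr2 : r = s ^ m + 1 := le_antisymm (Nat.le_of_dvd (by omega) hr1) (by omega)
  have hnm : n = s ^ m := by omega
  have hs2 : s = 2 := by
    refine hs.eq_two_or_odd'.resolve_right fun h => ?_
    have := h.pow (n := m)
    rcases hr.eq_two_or_odd' with h2 | h2
    · omega
    · rw [hr2, Nat.odd_add_one] at h2
      exact h2 this
  refine ⟨hq.eq_two_or_odd'.resolve_left (fun h => hsq (hs2.trans h.symm)), by omega, fun h => ?_, m, hs2 ▸ hnm⟩
  have hR2 : r ^ 2 ∣ Nat.card (R : Subgroup G) := R.pow_dvd_card_of_pow_dvd_card h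
  rw [show s ^ m + 1 = r from hr2.symm] at hfree
  have h3 := hR2.trans hfree
  rw [sq] at h3
  have h4 := Nat.le_of_dvd (by omega) ((Nat.mul_dvd_mul_iff_left hr.pos).1 h3)
  omega

end Cfsg.Lib.SolvableTransitive
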