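import Mathlib
import Cfsg.Agent.LinearPerm.SolvableTransitive.General

/-!
Solvable groups transitive on the non-zero vectors of a six-dimensional space over the field with two elements.
-/

set_option autoImplicit false
set_option linter.style.haveILetI false
set_option linter.unusedSectionVars false

namespace Cfsg.Lib.SolvableTransitive

open Module Subgroup Cfsg.Lib.Components Cfsg.Lib.Coprime

variable {V : Type*} [AddCommGroup V] [Module (ZMod 2) V] [Finite V] [Nontrivial V]
  {G : Type*} [Group G] [Finite G] {τ : G →* Module.End (ZMod 2) V}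

theorem card_dvd_gl (hinj : Function.Injective τ) (h6 : finrank (ZMod 2) V = 6) :
    Nat.card G ∣ 2 ^ 15 * 3 ^ 4 * 5 * 7 ^ 2 * 31 := by
  haveI : Fact (Nat.Prime 2) := ⟨Nat.prime_two⟩
  haveI : Finite (Module.End (ZMod 2) V) := finite_end
  let e := (LinearMap.toMatrixAlgEquiv (Module.finBasisOfFinrankEq (ZMod 2) V h6)).toMulEquiv
  let f : G →* GL (Fin 6) (ZMod 2) := (Units.mapEquiv e).toMonoidHom.comp τ.toHomUnits
  have hf : Function.Injective f := (Units.mapEquiv e).injective.comp fun g h hgh => hinj (congrArg Units.val hgh)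
  rw [Nat.card_congr (MonoidHom.ofInjective hf).toEquiv]
  refine (Subgroup.card_subgroup_dvd_card _).trans (dvd_of_eq ?_)
  rw [Matrix.card_GL_field, ZMod.card]
  decide

theorem six_two [Group.IsSolvable G] (hinj : Function.Injective τ)
    (htr : ∀ v w : V, v ≠ 0 → w ≠ 0 → ∃ g : G, τ g v = w) (h6 : finrank (ZMod 2) V = 6) :
    ∃ A : Subgroup G, A.Normal ∧ IsCyclic A ∧ Irr (τ '' (A : Set G)) := by
  classical
  haveI : Fact (Nat.Prime 7) := ⟨by norm_num⟩
  have hN := card_dvd_gl hinj h6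
  have h63 : 63 ∣ Nat.card G := by
    have := card_dvd htr
    rwa [h6] at this
  -- normal abelian subgroups
  have hab : ∀ (A : Subgroup G), A.Normal → (∀ a ∈ A, ∀ b ∈ A, a * b = b * a) →
      IsCyclic A ∧ Nat.card A ∣ 63 ∧ Semi τ A := by
    intro A hA hAc
    haveI := hA
    have hs := semi_of_normal τ hinj htr A hAc
    refine ⟨cyclic_of_semi τ hAc hs, ?_, hs⟩
    have := semi_dvd τ hs (W := ⊤) fun _ _ _ _ => Submodule.mem_top
    rwa [finrank_top, h6] at this
  have hprimes : ∀ s : ℕ, s.Prime → s ∣ Nat.card G → s = 2 ∨ s = 3 ∨ s = 5 ∨ s = 7 ∨ s = 31 := by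
    intro s hs hd
    have h := hd.trans hN
    rcases (Nat.Prime.dvd_mul hs).1 h with h | h
    rcases (Nat.Prime.dvd_mul hs).1 h with h | h
    rcases (Nat.Prime.dvd_mul hs).1 h with h | h
    rcases (Nat.Prime.dvd_mul hs).1 h with h | h
    · exact Or.inl ((Nat.prime_dvd_prime_iff_eq hs Nat.prime_two).1 (hs.dvd_of_dvd_pow h))
    · exact Or.inr (Or.inl ((Nat.prime_dvd_prime_iff_eq hs Nat.prime_three).1 (hs.dvd_of_dvd_pow h)))
    · exact Or.inr (Or.inr (Or.inl ((Nat.prime_dvd_prime_iff_eq hs Nat.prime_five).1 h)))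
    · exact Or.inr (Or.inr (Or.inr (Or.inl ((Nat.prime_dvd_prime_iff_eq hs (by norm_num)).1 (hs.dvd_of_dvd_pow h)))))
    · exact Or.inr (Or.inr (Or.inr (Or.inr ((Nat.prime_dvd_prime_iff_eq hs (by norm_num)).1 h))))
  -- the exponents of the cores
  have hexp : ∀ s e c : ℕ, s.Prime → Nat.card (pCore s G) = s ^ e → Nat.Coprime s c →
      ∀ k : ℕ, 2 ^ 15 * 3 ^ 4 * 5 * 7 ^ 2 * 31 = s ^ k * c → e ≤ k := by
    intro s e c hs he hco k hk
    have h := ((he ▸ Subgroup.card_subgroup_dvd_card (pCore s G)).trans hN)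
    rw [hk] at h
    exact (Nat.pow_dvd_pow_iff_le_right hs.one_lt).1 ((Nat.Coprime.pow_left e hco).dvd_of_dvd_mul_right h)
  have h2bot : pCore 2 G = ⊥ := pCore_self_eq_bot hinj htr
  have htriv : ∀ s, s = 5 ∨ s = 31 → pCore s G = ⊥ := by
    intro s hs
    haveI : Fact s.Prime := ⟨by rcases hs with rfl | rfl <;> norm_num⟩
    obtain ⟨e, he⟩ := IsPGroup.iff_card.1 (isPGroup_pCore (G := G) s)
    have he1 : e ≤ 1 := by
      rcases hs with rfl | rfl
      · exact hexp 5 e (2 ^ 15 * 3 ^ 4 * 7 ^ 2 * 31) (by norm_num) he (by norm_num) 1 (by norm_num)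
      · exact hexp 31 e (2 ^ 15 * 3 ^ 4 * 5 * 7 ^ 2) (by norm_num) he (by norm_num) 1 (by norm_num)
    interval_cases e
    · exact eq_bot_of_card_eq _ (by rw [he, pow_zero])
    · haveI : IsCyclic (pCore s G) := isCyclic_of_prime_card (p := s) (by rw [he, pow_one])
      have := (hab _ inferInstance fun a ha b hb =>
        congrArg Subtype.val (IsCyclic.isMulCommutative.is_comm.comm (⟨a, ha⟩ : pCore s G) ⟨b, hb⟩)).2.1
      rw [he, pow_one] at this
      rcases hs with rfl | rfl <;> norm_num at this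
  obtain ⟨e7, he7⟩ := IsPGroup.iff_card.1 (isPGroup_pCore (G := G) 7)
  have he7' : e7 ≤ 2 := hexp 7 e7 (2 ^ 15 * 3 ^ 4 * 5 * 31) (by norm_num) he7 (by norm_num) 2 (by norm_num)
  have h7comm : ∀ a ∈ pCore 7 G, ∀ b ∈ pCore 7 G, a * b = b * a := by
    intro a ha b hb
    interval_cases e7
    · rw [eq_bot_of_card_eq (pCore 7 G) (by rw [he7, pow_zero]), mem_bot] at ha hb
      rw [ha, hb]
    · haveI : IsCyclic (pCore 7 G) := isCyclic_of_prime_card (p := 7) (by rw [he7, pow_one])
      exact congrArg Subtype.val (IsCyclic.isMulCommutative.is_comm.comm (⟨a, ha⟩ : pCore 7 G) ⟨b, hb⟩)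
    · exact congrArg Subtype.val (IsPGroup.commutative_of_card_eq_prime_sq he7 ⟨a, ha⟩ ⟨b, hb⟩)
  have h7dvd : Nat.card (pCore 7 G) ∣ 63 := (hab _ inferInstance h7comm).2.1
  obtain ⟨e3, he3⟩ := IsPGroup.iff_card.1 (isPGroup_pCore (G := G) 3)
  have he3' : e3 ≤ 4 := by
    haveI : Fact (Nat.Prime 3) := ⟨Nat.prime_three⟩
    exact hexp 3 e3 (2 ^ 15 * 5 * 7 ^ 2 * 31) (by norm_num) he3 (by norm_num) 4 (by norm_num)
  -- elements of order seven centralise the Fitting subgroup
  have hcent : ∀ x : G, x ^ 7 = 1 → x ∈ zFit G := by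
    intro x hx
    refine mem_zFit fun s hs a ha => ?_
    haveI : Fact s.Prime := ⟨hs⟩
    by_cases hsd : s ∣ Nat.card G
    swap
    · rw [Cfsg.Lib.Components.pCore_eq_bot_of_not_dvd hsd, mem_bot] at ha
      rw [ha]; exact Commute.one_right x
    let Z := zpowers x
    have hZ : IsPGroup 7 Z := by
      obtain ⟨k, -, hk⟩ := (Nat.dvd_prime_pow (by norm_num : Nat.Prime 7)).1
        (show orderOf x ∣ 7 ^ 1 by rw [pow_one]; exact orderOf_dvd_of_pow_eq_one hx)
      exact IsPGroup.iff_card.2 ⟨k, by rw [Nat.card_zpowers, hk]⟩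
    letI : MulAction Z (pCore s G) := MulAction.compHom (pCore s G)
      ((MulAut.conjNormal : G →* MulAut (pCore s G)).comp Z.subtype)
    have hmod := hZ.card_modEq_card_fixedPoints (pCore s G)
    let C : Subgroup G := pCore s G ⊓ centralizer {x}
    have hfix : ∀ u : pCore s G, u ∈ MulAction.fixedPoints Z (pCore s G) ↔ (u : G) ∈ centralizer ({x} : Set G) := by
      intro u
      rw [mem_centralizer_singleton_iff]
      constructor
      · intro h
        have h1 := congrArg Subtype.val (h ⟨x, mem_zpowers x⟩)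
        change ((MulAut.conjNormal x u : pCore s G) : G) = u at h1
        rw [MulAut.conjNormal_apply, mul_inv_eq_iff_eq_mul] at h1
        exact h1.symm
      · intro h g
        obtain ⟨i, hi⟩ := g.2
        apply Subtype.ext
        show ((MulAut.conjNormal (g : G) u : pCore s G) : G) = u
        have hgu : Commute (g : G) (u : G) := hi ▸ ((show Commute (u : G) x from h).zpow_right i).symm
        rw [MulAut.conjNormal_apply, hgu.eq, mul_inv_cancel_right]
    have hcard : Nat.card (MulAction.fixedPoints Z (pCore s G)) = Nat.card C :=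
      Nat.card_congr ((Equiv.subtypeEquivRight hfix).trans (Equiv.subtypeSubtypeEquivSubtypeInter _ _))
    rw [hcard] at hmod
    suffices hCtop : Nat.card C = Nat.card (pCore s G) by
      have : C = pCore s G := Subgroup.eq_of_le_of_card_ge inf_le_left hCtop.ge
      rw [← this] at ha
      exact (mem_centralizer_singleton_iff.1 ha.2).symm
    obtain ⟨f, hf⟩ := IsPGroup.iff_card.1 ((isPGroup_pCore (G := G) s).to_le (inf_le_left : C ≤ pCore s G))
    rcases hprimes s hs hsd with rfl | rfl | rfl | rfl | rfl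
    · rw [show C = pCore 2 G from le_antisymm inf_le_left (h2bot.le.trans bot_le)]
    · have hle : f ≤ e3 := (Nat.pow_dvd_pow_iff_le_right (by norm_num)).1
        (hf ▸ he3 ▸ Subgroup.card_dvd_of_le inf_le_left)
      rw [hf, he3] at hmod ⊢
      have key : ∀ e < 5, ∀ f < e + 1, 3 ^ e % 7 = 3 ^ f % 7 → f = e := by decide
      rw [key e3 (by omega) f (by omega) hmod]
    · rw [show C = pCore 5 G from le_antisymm inf_le_left ((htriv 5 (Or.inl rfl)).le.trans bot_le)]
    · have hle : f ≤ e7 := (Nat.pow_dvd_pow_iff_le_right (by norm_num)).1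
        (hf ▸ he7 ▸ Subgroup.card_dvd_of_le inf_le_left)
      rw [he7] at h7dvd
      have h71 : e7 ≤ 1 := by
        by_contra h
        have : e7 = 2 := by omega
        rw [this] at h7dvd
        norm_num at h7dvd
      rw [hf, he7] at hmod ⊢
      have key : ∀ e < 2, ∀ f < e + 1, 7 ^ e % 7 = 7 ^ f % 7 → f = e := by decide
      rw [key e7 (by omega) f (by omega) hmod]
    · rw [show C = pCore 31 G from le_antisymm inf_le_left ((htriv 31 (Or.inr rfl)).le.trans bot_le)]
  obtain ⟨hcyc, hA63, hsemi⟩ := hab (zFit G) inferInstance zFit_comm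
  refine ⟨zFit G, inferInstance, hcyc, ?_⟩
  by_contra hirr
  simp only [Irr, not_forall, not_or] at hirr
  obtain ⟨W, hW, hW0, hWT⟩ := hirr
  have hdA := semi_dvd τ hsemi (W := W) fun a ha v hv => hW _ ⟨a, ha, rfl⟩ v hv
  have hd6 : finrank (ZMod 2) W < 6 := h6 ▸ Submodule.finrank_lt hWT
  have hd0 : finrank (ZMod 2) W ≠ 0 := fun e => hW0 (Submodule.finrank_eq_zero.1 e)
  obtain ⟨x, hx⟩ := exists_prime_orderOf_dvd_card' (G := G) 7 (dvd_trans (by norm_num) h63)
  have hA7 : 7 ∣ Nat.card (zFit G) :=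
    hx ▸ Subgroup.orderOf_dvd_natCard _ (hcent x (hx ▸ pow_orderOf_eq_one x))
  have hA : Nat.card (zFit G) = 7 := by
    have key : ∀ a ∈ Nat.divisors 63, 7 ∣ a → ∀ d < 6, d ≠ 0 → a ∣ 2 ^ d - 1 → a = 7 := by decide
    exact key _ (Nat.mem_divisors.2 ⟨hA63, by norm_num⟩) hA7 _ hd6 hd0 hdA
  -- the 3-core is trivial
  have h3bot : pCore 3 G = ⊥ := by
    haveI : Fact (Nat.Prime 3) := ⟨Nat.prime_three⟩
    by_contra hne
    haveI : Nontrivial (pCore 3 G) := (Subgroup.nontrivial_iff_ne_bot _).2 hne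
    haveI := (isPGroup_pCore (G := G) 3).center_nontrivial
    obtain ⟨z, hz⟩ := exists_ne (1 : center (pCore 3 G))
    have hzA : ((z : pCore 3 G) : G) ∈ zFit G := by
      refine mem_zFit fun s hs a ha => ?_
      haveI : Fact s.Prime := ⟨hs⟩
      by_cases h3 : s = 3
      · subst h3
        exact (congrArg Subtype.val (mem_center_iff.1 z.2 ⟨a, ha⟩)).symm
      · exact pCore_commute (Ne.symm h3) _ a (z : pCore 3 G).2 ha
    obtain ⟨k, hk⟩ := isPGroup_pCore (G := G) 3 (z : pCore 3 G)
    have h1 : orderOf ((z : pCore 3 G) : G) ∣ 3 ^ k :=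
      orderOf_dvd_of_pow_eq_one (congrArg Subtype.val hk)
    have h2 := Subgroup.orderOf_dvd_natCard _ hzA
    rw [hA] at h2
    have h3 := Nat.eq_one_of_dvd_coprimes (Nat.Coprime.pow_left k (by norm_num : Nat.Coprime 3 7)) h1 h2
    exact hz (Subtype.ext (Subtype.ext (orderOf_eq_one_iff.1 h3)))
  have hF : fittingSubgroup G ≤ pCore 7 G := by
    rw [fitting_eq_iSup_pCore]
    refine iSup_le fun s => ?_
    haveI : Fact s.1.Prime := ⟨s.2⟩
    by_cases hsd : s.1 ∣ Nat.card G
    swap
    · exact (Cfsg.Lib.Components.pCore_eq_bot_of_not_dvd hsd).le.trans bot_le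
    rcases hprimes _ s.2 hsd with h | h | h | h | h <;> rw [h]
    · exact h2bot.le.trans bot_le
    · exact h3bot.le.trans bot_le
    · exact (htriv 5 (Or.inl rfl)).le.trans bot_le
    · exact (htriv 31 (Or.inr rfl)).le.trans bot_le
  have hFA : fittingSubgroup G = zFit G := le_antisymm
    (fun y hy => ⟨hy, mem_centralizer_iff.2 fun c hc => h7comm c (hF hc) y (hF hy)⟩) inf_le_left
  let φ := (MulAut.conjNormal : G →* MulAut (zFit G))
  have hker : φ.ker ≤ zFit G := by
    intro g hg
    rw [← hFA]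
    refine centralizer_fitting_le (mem_centralizer_iff.2 fun c hc => ?_)
    rw [hFA] at hc
    have h := congrArg Subtype.val (DFunLike.congr_fun (MonoidHom.mem_ker.1 hg) ⟨c, hc⟩)
    rw [MulAut.conjNormal_apply] at h
    exact (mul_inv_eq_iff_eq_mul.1 h).symm
  have hdG : Nat.card G ∣ 7 * 6 := by
    rw [← φ.ker.card_mul_index, Subgroup.index_ker]
    refine Nat.mul_dvd_mul (hA ▸ Subgroup.card_dvd_of_le hker) ((Subgroup.card_subgroup_dvd_card _).trans ?_)
    rw [IsCyclic.card_mulAut, hA]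
    decide
  exact absurd (Nat.le_of_dvd (by norm_num) (h63.trans hdG)) (by norm_num)

end Cfsg.Lib.SolvableTransitive
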