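import Mathlib
import Cfsg.Agent.LinearPerm.SolvableTransitive.General

/-!
Solvable transitive linear groups in dimension two.
-/

set_option autoImplicit false
set_option linter.style.haveILetI false
set_option linter.unusedSectionVars false

namespace Cfsg.Lib.SolvableTransitive

open Module Subgroup Cfsg.Lib.Components Cfsg.Lib.Coprime
open scoped commutatorElement

variable {q : ℕ} [Fact q.Prime] {V : Type*} [AddCommGroup V] [Module (ZMod q) V] [Finite V] [Nontrivial V]
  {G : Type*} [Group G] [Finite G] {τ : G →* Module.End (ZMod q) V}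

/-- `g` acts as a scalar. -/
def Scal (τ : G →* Module.End (ZMod q) V) (g : G) : Prop := ∃ c : ZMod q, τ g = c • 1

theorem scal_central (hinj : Function.Injective τ) {g : G} (hg : Scal τ g) (h : G) : h * g = g * h := by
  obtain ⟨c, hc⟩ := hg
  apply hinj
  rw [map_mul, map_mul, hc, mul_smul_comm, mul_one, smul_mul_assoc, one_mul]

theorem irr_or_scal (htr : ∀ v w : V, v ≠ 0 → w ≠ 0 → ∃ g : G, τ g v = w) (h2 : finrank (ZMod q) V = 2)
    (A : Subgroup G) [A.Normal] : Irr (τ '' (A : Set G)) ∨ ∀ a ∈ A, Scal τ a := by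
  by_cases hi : Irr (τ '' (A : Set G))
  · exact Or.inl hi
  right
  simp only [Irr, not_forall, not_or] at hi
  obtain ⟨W, hW, hW0, hWT⟩ := hi
  have hW1 : finrank (ZMod q) W = 1 := by
    have h := Submodule.finrank_lt hWT
    have h' : finrank (ZMod q) W ≠ 0 := fun e => hW0 (Submodule.finrank_eq_zero.1 e)
    omega
  obtain ⟨w, hw, hw0⟩ := Submodule.exists_mem_ne_zero_of_ne_bot hW0
  have hline : ∀ u ∈ W, ∃ c : ZMod q, c • w = u := fun u hu => by
    obtain ⟨c, hc⟩ := exists_smul_eq_of_finrank_eq_one hW1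
      (x := (⟨w, hw⟩ : W)) (fun h => hw0 (congrArg Subtype.val h)) ⟨u, hu⟩
    exact ⟨c, congrArg Subtype.val hc⟩
  intro a ha
  refine LinearMap.exists_eq_smul_id_of_forall_notLinearIndependent fun v => ?_
  rcases eq_or_ne v 0 with rfl | hv
  · exact fun h => h.ne_zero 0 rfl
  obtain ⟨g, rfl⟩ := htr w v hw0 hv
  have hag : g⁻¹ * a * g ∈ A := by simpa using (inferInstance : A.Normal).conj_mem a ha g⁻¹
  obtain ⟨c, hc⟩ := hline _ (hW _ ⟨_, hag, rfl⟩ w hw)
  rw [LinearIndependent.pair_iff]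
  intro h
  have e : τ a (τ g w) = c • τ g w := by
    rw [← map_smul, hc, ← Module.End.mul_apply, ← Module.End.mul_apply, ← map_mul, ← map_mul]
    group
  exact one_ne_zero (h (-c) 1 (by rw [e, one_smul, neg_smul, neg_add_cancel])).2

set_option maxHeartbeats 800000 in
theorem two_dim [Group.IsSolvable G] (hinj : Function.Injective τ)
    (htr : ∀ v w : V, v ≠ 0 → w ≠ 0 → ∃ g : G, τ g v = w) (h2 : finrank (ZMod q) V = 2) :
    (∃ A : Subgroup G, A.Normal ∧ IsCyclic A ∧ Irr (τ '' (A : Set G))) ∨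
      q ∈ ({3, 5, 7, 11, 23} : Set ℕ) := by
  classical
  have hq : q.Prime := Fact.out
  by_cases hsc : ∀ A : Subgroup G, A.Normal → (∀ a ∈ A, ∀ b ∈ A, a * b = b * a) → ∀ a ∈ A, Scal τ a
  swap
  · push Not at hsc
    obtain ⟨A, hAn, hAc, a, ha, hna⟩ := hsc
    haveI := hAn
    exact Or.inl ⟨A, hAn, cyclic_of_semi τ hAc (semi_of_normal τ hinj htr A hAc),
      (irr_or_scal htr h2 A).resolve_right fun h => hna (h a ha)⟩
  right
  have hcardV : Nat.card V = q * q := by
    rw [Module.natCard_eq_pow_finrank (K := ZMod q) (V := V), Nat.card_zmod, h2, sq]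
  -- some O_s is non-abelian
  obtain ⟨s, hs, hnab⟩ : ∃ s : ℕ, s.Prime ∧ ¬ ∀ a ∈ pCore s G, ∀ b ∈ pCore s G, a * b = b * a := by
    by_contra! hall
    have hx : ∀ g : G, Scal τ g := fun g => hsc (zFit G) inferInstance zFit_comm g (mem_zFit fun s hs a ha =>
      scal_central hinj (hsc _ inferInstance (hall s hs) a ha) g)
    obtain ⟨v, hv⟩ := exists_ne (0 : V)
    obtain ⟨u, hu⟩ : ∃ u, u ∉ Submodule.span (ZMod q) {v} := by
      by_contra! h
      have := finrank_span_singleton (K := ZMod q) hv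
      rw [show Submodule.span (ZMod q) ({v} : Set V) = ⊤ from eq_top_iff.2 fun x _ => h x, finrank_top, h2] at this
      exact absurd this (by norm_num)
    obtain ⟨g, hg⟩ := htr v u hv fun h => hu (h ▸ zero_mem _)
    obtain ⟨c, hc⟩ := hx g
    exact hu (hg ▸ hc ▸ Submodule.mem_span_singleton.2 ⟨c, rfl⟩)
  haveI : Fact s.Prime := ⟨hs⟩
  have hsq : s ≠ q := by
    rintro rfl
    exact hnab fun a ha b hb => by
      rw [pCore_self_eq_bot hinj htr, mem_bot] at ha hb; rw [ha, hb]
  obtain ⟨N, -, ⟨hNO, hNn, hNna⟩, hNmin⟩ := Finite.exists_le_minimal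
    (p := fun N : Subgroup G => N ≤ pCore s G ∧ N.Normal ∧ ¬ ∀ a ∈ N, ∀ b ∈ N, a * b = b * a)
    (a := pCore s G) ⟨le_rfl, inferInstance, hnab⟩
  haveI := hNn
  have hNp : IsPGroup s N := (isPGroup_pCore s).to_le hNO
  have hcs : ∀ a ∈ N, ∀ b ∈ N, Scal τ (a * b * a⁻¹ * b⁻¹) := by
    have hle : ⁅N, N⁆ ≤ N := commutator_le.2 fun a ha b hb => N.mul_mem (N.mul_mem (N.mul_mem ha hb) (N.inv_mem ha))
      (N.inv_mem hb)
    have hne : ⁅N, N⁆ ≠ N := (Group.IsSolvable.commutator_lt_of_ne_bot fun h => hNna fun a ha b hb => by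
      rw [h, mem_bot] at ha hb; rw [ha, hb]).ne
    have hab : ∀ a ∈ ⁅N, N⁆, ∀ b ∈ ⁅N, N⁆, a * b = b * a := by
      by_contra h
      exact hne (le_antisymm hle (hNmin ⟨hle.trans hNO, inferInstance, h⟩ hle))
    exact fun a ha b hb => hsc _ inferInstance hab _ (commutator_mem_commutator ha hb)
  -- scalars of determinant one
  have hsq1 : ∀ a g : G, Scal τ (a * g * a⁻¹ * g⁻¹) → (a * g * a⁻¹ * g⁻¹) ^ 2 = 1 := by
    rintro a g ⟨c, hc⟩
    have hdet : (LinearMap.det (τ (a * g * a⁻¹ * g⁻¹)) : ZMod q) = 1 := by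
      let D : G →* ZMod q := LinearMap.det.comp τ
      show D _ = 1
      calc D (a * g * a⁻¹ * g⁻¹) = D a * D a⁻¹ * (D g * D g⁻¹) := by rw [map_mul, map_mul, map_mul]; ring
        _ = 1 := by rw [← map_mul, ← map_mul, mul_inv_cancel, mul_inv_cancel, map_one, mul_one]
    rw [hc, LinearMap.det_smul, h2, map_one, mul_one] at hdet
    apply hinj
    rw [map_pow, hc, smul_pow, one_pow, hdet, one_smul, map_one]
  obtain ⟨a, ha, b, hb, hab⟩ : ∃ a ∈ N, ∃ b ∈ N, a * b ≠ b * a := by
    by_contra! h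
    exact hNna h
  set z₀ := a * b * a⁻¹ * b⁻¹ with hz₀
  have hz01 : z₀ ≠ 1 := fun h => hab (by rw [hz₀, mul_inv_eq_one, mul_inv_eq_iff_eq_mul] at h; exact h)
  have hz02 : orderOf z₀ = 2 := orderOf_eq_prime (hsq1 a b (hcs a ha b hb)) hz01
  have hs2 : s = 2 := by
    obtain ⟨k, hk⟩ := hNp ⟨z₀, (N.mul_mem (N.mul_mem (N.mul_mem ha hb) (N.inv_mem ha)) (N.inv_mem hb))⟩
    have := orderOf_dvd_of_pow_eq_one (congrArg Subtype.val hk : z₀ ^ s ^ k = (1 : G))
    rw [hz02] at this
    exact ((Nat.prime_dvd_prime_iff_eq Nat.prime_two hs).1 (Nat.prime_two.dvd_of_dvd_pow this)).symm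
  subst hs2
  have hz0mem : ∀ z : G, Scal τ z → z ^ 2 = 1 → z ∈ zpowers z₀ := by
    have key : ∀ z : G, Scal τ z → z ^ 2 = 1 → τ z = 1 ∨ τ z = (-1 : ZMod q) • 1 := by
      rintro z ⟨c, hc⟩ hz
      have h := congrArg τ hz
      rw [map_pow, map_one, hc, smul_pow, one_pow] at h
      obtain ⟨v, hv⟩ := exists_ne (0 : V)
      have h' : c ^ 2 • v = (1 : ZMod q) • v := by rw [one_smul]; exact LinearMap.congr_fun h v
      rcases sq_eq_one_iff.1 (smul_left_injective (ZMod q) hv h') with rfl | rfl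
      · exact Or.inl (hc.trans (one_smul _ _))
      · exact Or.inr hc
    intro z hz hz2
    rcases key z hz hz2 with h | h
    · rw [← map_one τ] at h
      rw [hinj h]
      exact one_mem _
    · rcases key z₀ (hcs a ha b hb) (hz02 ▸ pow_orderOf_eq_one z₀) with h' | h'
      · exact absurd (hinj (h'.trans (map_one τ).symm)) hz01
      · rw [hinj (h.trans h'.symm)]
        exact mem_zpowers z₀
  -- the quotient of N by its centre
  have hZs : ∀ z : N, z ∈ center N → Scal τ (z : G) := fun z hz =>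
    hsc (N ⊓ centralizer (N : Set G)) inferInstance (fun u hu w hw => mem_centralizer_iff.1 hw.2 u hu.1) z
      ⟨z.2, mem_centralizer_iff.2 fun c hc => congrArg Subtype.val (mem_center_iff.1 hz ⟨c, hc⟩)⟩
  have hsZ : ∀ z : N, Scal τ (z : G) → z ∈ center N := fun z hz =>
    mem_center_iff.2 fun c => Subtype.ext (scal_central hinj hz c)
  have hcl : ∀ u w : N, u * w * u⁻¹ * w⁻¹ ∈ center N := fun u w => hsZ _ (hcs u u.2 w w.2)
  have hsqc : ∀ u : N, u ^ 2 ∈ center N := fun u => mem_center_iff.2 fun w => Subtype.ext (by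
    have hz := hcs u u.2 w w.2
    have hz2 := hsq1 _ _ hz
    set z := (u : G) * w * (u : G)⁻¹ * (w : G)⁻¹ with hzdef
    have h1 : (u : G) * w = z * (w * u) := by rw [hzdef]; group
    show (w : G) * ((u : G) ^ 2) = (u : G) ^ 2 * w
    calc (w : G) * (u : G) ^ 2 = z ^ 2 * (w * u) * u := by rw [hz2, one_mul, pow_two, ← mul_assoc]
      _ = z * (z * (w * u)) * u := by rw [pow_two]; simp only [mul_assoc]
      _ = z * ((u : G) * w) * u := by rw [← h1]
      _ = (z * (u : G)) * (w * u) := by simp only [mul_assoc]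
      _ = ((u : G) * z) * (w * u) := by rw [scal_central hinj hz]
      _ = (u : G) * (z * (w * u)) := by simp only [mul_assoc]
      _ = (u : G) ^ 2 * w := by rw [← h1, pow_two, mul_assoc])
  set W := N ⧸ center N with hW
  have hWsq : ∀ w : W, w ^ 2 = 1 := fun w => by
    induction w using QuotientGroup.induction_on with
    | H u => rw [← QuotientGroup.mk_pow, QuotientGroup.eq_one_iff]; exact hsqc u
  haveI : Finite (Module.End (ZMod q) V) := finite_end
  haveI : Fintype W := Fintype.ofFinite W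
  have hind := operators_independent τ N.subtype (⊥ : Subalgebra (ZMod q) (Module.End (ZMod q) V))
    (fun l hl h0 => by
      obtain ⟨c, rfl⟩ := Algebra.mem_bot.1 hl
      have hc : c ≠ 0 := fun h => h0 (by rw [h, map_zero])
      intro u w h
      simp only [Module.algebraMap_end_apply] at h
      exact smul_right_injective V hc h)
    (fun l hl u => by
      obtain ⟨c, rfl⟩ := Algebra.mem_bot.1 hl
      exact Algebra.commutes c _)
    (fun z hz => by
      obtain ⟨c, hc⟩ := hZs z hz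
      exact Algebra.mem_bot.2 ⟨c, by rw [Algebra.algebraMap_eq_smul_one]; exact hc.symm⟩)
    hcl (hinj.comp N.subtype_injective)
  have hEnd : finrank (ZMod q) (Module.End (ZMod q) V) = 4 :=
    (Module.finrank_linearMap (ZMod q) (ZMod q) V V).trans (by rw [h2])
  have hW4 : Fintype.card W ≤ 4 := hEnd ▸ hind.fintype_card_le_finrank
  set ā : W := ((⟨a, ha⟩ : N) : W) with hā
  set b' : W := ((⟨b, hb⟩ : N) : W) with hb'
  have hnc : ∀ u : N, (u : W) = 1 → ∀ w : N, (u : G) * w = w * u := fun u hu w =>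
    (congrArg Subtype.val (mem_center_iff.1 ((QuotientGroup.eq_one_iff u).1 hu) w)).symm
  have d1 : ā ≠ 1 := fun h => hab (hnc _ h ⟨b, hb⟩)
  have d2 : b' ≠ 1 := fun h => hab (hnc _ h ⟨a, ha⟩).symm
  have d3 : ā ≠ b' := fun h => by
    have h' := hnc ((⟨a, ha⟩ : N)⁻¹ * ⟨b, hb⟩) (by
      rw [QuotientGroup.mk_mul, QuotientGroup.mk_inv]; exact inv_mul_eq_one.2 h) ⟨a, ha⟩
    refine hab ?_
    change a⁻¹ * b * a = a * (a⁻¹ * b) at h'
    rw [mul_inv_cancel_left] at h'
    calc a * b = a * (a⁻¹ * b * a) := by rw [h']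
      _ = b * a := by group
  have hbinv : b'⁻¹ = b' := inv_eq_of_mul_eq_one_left (by rw [← sq]; exact hWsq b')
  have huniv : ∀ w : W, w = 1 ∨ w = ā ∨ w = b' ∨ w = ā * b' := by
    intro w
    have hcard : ({1, ā, b', ā * b'} : Finset W).card = 4 := by
      have e1 : ā * b' ≠ 1 := fun h => d3 (by rw [eq_inv_of_mul_eq_one_left h, hbinv])
      have e2 : ā * b' ≠ ā := fun h => d2 (mul_eq_left.1 h)
      have e3 : ā * b' ≠ b' := fun h => d1 (mul_eq_right.1 h)
      simp [d1.symm, d2.symm, d3, e1.symm, e2.symm, e3.symm]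
    have := Finset.eq_univ_of_card _ (le_antisymm (Finset.card_le_univ _) (hcard.symm ▸ hW4))
    simpa using (this.symm ▸ Finset.mem_univ w : w ∈ ({1, ā, b', ā * b'} : Finset W))
  have hWcard : Fintype.card W = 4 := by
    refine le_antisymm hW4 (le_trans (le_of_eq ?_) (Finset.card_le_univ ({1, ā, b', ā * b'} : Finset W)))
    have e1 : ā * b' ≠ 1 := fun h => d3 (by rw [eq_inv_of_mul_eq_one_left h, hbinv])
    have e2 : ā * b' ≠ ā := fun h => d2 (mul_eq_left.1 h)
    have e3 : ā * b' ≠ b' := fun h => d1 (mul_eq_right.1 h)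
    simp [d1.symm, d2.symm, d3, e1.symm, e2.symm, e3.symm]
  have hspan : Submodule.span (ZMod q) (Set.range fun w : W => τ (N.subtype w.out)) = ⊤ :=
    hind.span_eq_top_of_card_eq_finrank (hWcard.trans hEnd.symm)
  -- what commutes with a and b is scalar
  have hscal : ∀ g : G, g * a = a * g → g * b = b * g → Scal τ g := by
    intro g hga hgb
    have hgen : ∀ w : W, Commute g ((w.out : N) : G) := by
      intro w
      have hout : ∀ u : N, (u : W) = w → Commute g (u : G) → Commute g ((w.out : N) : G) := by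
        intro u hu hgu
        have hz : u⁻¹ * w.out ∈ center N := by rw [← QuotientGroup.eq, hu, QuotientGroup.out_eq']
        have : ((w.out : N) : G) = (u : G) * ((u⁻¹ * w.out : N) : G) := by simp
        rw [this]
        exact hgu.mul_right (scal_central hinj (hZs _ hz) g)
      rcases huniv w with h | h | h | h
      · exact hout 1 h.symm (Commute.one_right g)
      · exact hout ⟨a, ha⟩ h.symm hga
      · exact hout ⟨b, hb⟩ h.symm hgb
      · exact hout (⟨a, ha⟩ * ⟨b, hb⟩) (by rw [h, QuotientGroup.mk_mul]) (Commute.mul_right (show Commute g a from hga) (show Commute g b from hgb))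
    have hall : ∀ f : Module.End (ZMod q) V, f * τ g = τ g * f := by
      intro f
      have hf : f ∈ Submodule.span (ZMod q) (Set.range fun w : W => τ (N.subtype w.out)) := hspan ▸ Submodule.mem_top
      induction hf using Submodule.span_induction with
      | mem x hx => obtain ⟨w, rfl⟩ := hx; exact ((hgen w).map τ).eq.symm
      | zero => simp
      | add x y _ _ hx hy => rw [add_mul, mul_add, hx, hy]
      | smul c x _ hx => rw [smul_mul_assoc, mul_smul_comm, hx]
    have hmem : τ g ∈ Subalgebra.center (ZMod q) (Module.End (ZMod q) V) := Subalgebra.mem_center_iff.2 hall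
    rw [Algebra.IsCentral.center_eq_bot, Algebra.mem_bot] at hmem
    obtain ⟨c, hc⟩ := hmem
    exact ⟨c, by rw [← hc, Algebra.algebraMap_eq_smul_one]⟩
  -- the action on the quotient
  have hcjz : ∀ g : G, center N ≤ (center N).comap (MulAut.conjNormal g : MulAut N).toMonoidHom := fun g z hz =>
    hsZ _ (by
      show Scal τ ((MulAut.conjNormal g z : N) : G)
      rw [MulAut.conjNormal_apply, scal_central hinj (hZs z hz) g, mul_inv_cancel_right]
      exact hZs z hz)
  letI : MulAction G W :=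
    { smul := fun g => QuotientGroup.map (center N) (center N) (MulAut.conjNormal g : MulAut N).toMonoidHom (hcjz g)
      one_smul := fun w => by
        induction w using QuotientGroup.induction_on with
        | H u => exact congrArg QuotientGroup.mk (by rw [map_one]; rfl)
      mul_smul := fun g h w => by
        induction w using QuotientGroup.induction_on with
        | H u => exact congrArg QuotientGroup.mk (by rw [map_mul]; rfl) }
  have hsmul1 : ∀ g : G, g • (1 : W) = 1 := fun g => map_one _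
  letI : MulAction G {w : W // w ≠ 1} :=
    { smul := fun g w => ⟨g • w.1, fun h => w.2 (by rw [← inv_smul_smul g w.1, h, hsmul1])⟩
      one_smul := fun w => Subtype.ext (one_smul G w.1)
      mul_smul := fun g h w => Subtype.ext (mul_smul g h w.1) }
  set φ := MulAction.toPermHom G {w : W // w ≠ 1}
  have hφ6 : Nat.card φ.range ∣ 6 := by
    refine (Subgroup.card_subgroup_dvd_card _).trans ?_
    rw [Nat.card_perm, Nat.card_eq_fintype_card, Fintype.card_subtype_compl, Fintype.card_subtype_eq, hWcard]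
    decide
  -- the kernel
  have hK : ∀ g : G, g ∈ φ.ker → ∀ u ∈ N, Scal τ (g * u * g⁻¹ * u⁻¹) := by
    intro g hg u hu
    set û : N := ⟨u, hu⟩
    have hfix : g • (û : W) = û := by
      by_cases h1 : (û : W) = 1
      · rw [h1, hsmul1]
      exact congrArg Subtype.val (Equiv.ext_iff.1 (MonoidHom.mem_ker.1 hg) ⟨_, h1⟩)
    have hfix' : ((MulAut.conjNormal g û : N) : W) = (û : W) := hfix
    have hd := hZs _ (QuotientGroup.eq.1 hfix'.symm)
    have e : g * u * g⁻¹ * u⁻¹ = u * (u⁻¹ * (g * u * g⁻¹)) * u⁻¹ := by group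
    rw [e]
    simp only [û, Subgroup.coe_mul, Subgroup.coe_inv, MulAut.conjNormal_apply] at hd
    rw [scal_central hinj hd u, mul_inv_cancel_right]
    exact hd
  have hmul : ∀ g h : G, g ∈ φ.ker → h ∈ φ.ker → ∀ u ∈ N,
      g * h * u * (g * h)⁻¹ * u⁻¹ = (g * u * g⁻¹ * u⁻¹) * (h * u * h⁻¹ * u⁻¹) := by
    intro g h hg hh u hu
    calc g * h * u * (g * h)⁻¹ * u⁻¹
        = g * (h * u * h⁻¹ * u⁻¹) * g⁻¹ * (g * u * g⁻¹ * u⁻¹) := by group
      _ = (h * u * h⁻¹ * u⁻¹) * (g * u * g⁻¹ * u⁻¹) := by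
        rw [scal_central hinj (hK h hh u hu) g, mul_inv_cancel_right]
      _ = _ := scal_central hinj (hK g hg u hu) _
  have hmem : ∀ g : φ.ker, ∀ u ∈ N, (g : G) * u * (g : G)⁻¹ * u⁻¹ ∈ zpowers z₀ := fun g u hu =>
    hz0mem _ (hK g g.2 u hu) (hsq1 _ _ (hK g g.2 u hu))
  let ψ : φ.ker →* zpowers z₀ × zpowers z₀ :=
    MonoidHom.mk' (fun g => (⟨_, hmem g a ha⟩, ⟨_, hmem g b hb⟩))
      fun g h => Prod.ext (Subtype.ext (hmul g h g.2 h.2 a ha)) (Subtype.ext (hmul g h g.2 h.2 b hb))
  have hψ4 : Nat.card ψ.range ∣ 4 := by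
    refine (Subgroup.card_subgroup_dvd_card _).trans ?_
    rw [Nat.card_prod, Nat.card_zpowers, hz02]
  have hsC : ∀ g : ψ.ker, Scal τ ((g : φ.ker) : G) := by
    intro g
    have h := MonoidHom.mem_ker.1 g.2
    have h1 := congrArg (fun p : zpowers z₀ × zpowers z₀ => (p.1 : G)) h
    have h2 := congrArg (fun p : zpowers z₀ × zpowers z₀ => (p.2 : G)) h
    change ((g : φ.ker) : G) * a * ((g : φ.ker) : G)⁻¹ * a⁻¹ = 1 at h1
    change ((g : φ.ker) : G) * b * ((g : φ.ker) : G)⁻¹ * b⁻¹ = 1 at h2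
    rw [mul_inv_eq_one, mul_inv_eq_iff_eq_mul] at h1 h2
    exact hscal _ h1 h2
  have hker : Nat.card ψ.ker ∣ q - 1 := by
    choose c hc using hsC
    obtain ⟨v, hv⟩ := exists_ne (0 : V)
    have hcv : ∀ g, c g • v = τ ((g : φ.ker) : G) v := fun g => by rw [hc]; rfl
    let χ : ψ.ker →* ZMod q :=
      { toFun := c
        map_one' := smul_left_injective (ZMod q) hv (show c 1 • v = (1 : ZMod q) • v by
          rw [hcv, one_smul, Subgroup.coe_one, Subgroup.coe_one, map_one]; rfl)
        map_mul' := fun g h => smul_left_injective (ZMod q) hv (show c (g * h) • v = (c g * c h) • v by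
          rw [hcv, Subgroup.coe_mul, Subgroup.coe_mul, map_mul, Module.End.mul_apply, ← hcv h, map_smul, ← hcv g,
            smul_smul, mul_comm]) }
    have hχ : Function.Injective χ := fun g h e => by
      refine Subtype.ext (Subtype.ext (hinj ?_))
      rw [hc g, hc h]
      exact congrArg (fun t : ZMod q => t • (1 : Module.End (ZMod q) V)) e
    rw [Nat.card_congr (MonoidHom.ofInjective (f := χ.toHomUnits) fun g h e =>
      hχ (congrArg Units.val e)).toEquiv, ← ZMod.card_units q, ← Nat.card_eq_fintype_card]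
    exact Subgroup.card_subgroup_dvd_card _
  have hG : Nat.card G ∣ 24 * (q - 1) := by
    rw [← φ.ker.card_mul_index, Subgroup.index_ker, ← ψ.ker.card_mul_index, Subgroup.index_ker,
      show 24 * (q - 1) = (q - 1) * 4 * 6 by omega]
    exact Nat.mul_dvd_mul (Nat.mul_dvd_mul hker hψ4) hφ6
  have hd := (card_dvd htr).trans hG
  rw [h2, show q ^ 2 - 1 = (q + 1) * (q - 1) by simpa using Nat.sq_sub_sq q 1] at hd
  have h24 : q + 1 ∣ 24 := (Nat.mul_dvd_mul_iff_right (by have := hq.two_le; omega)).1 hd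
  have hle := Nat.le_of_dvd (by norm_num) h24
  have hq2 : q ≠ 2 := fun h => hsq h.symm
  have : ∀ n ∈ Finset.range 24, n.Prime → n + 1 ∣ 24 → n ≠ 2 →
      n = 3 ∨ n = 5 ∨ n = 7 ∨ n = 11 ∨ n = 23 := by decide
  rcases this q (Finset.mem_range.2 (by omega)) hq h24 hq2 with h | h | h | h | h <;> simp [h]

end Cfsg.Lib.SolvableTransitive
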