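import Mathlib
import Cfsg.Agent.LinearPerm.SolvableTransitive.TwoDim
import Cfsg.Agent.LinearPerm.SolvableTransitive.SixTwo
import Cfsg.Agent.LinearPerm.SolvableRegular
import Cfsg.Agent.Components.Misc.Zsigmondy

/-!
Solvable groups transitive on the non-zero vectors of a finite vector space are semilinear or exceptional.
-/

set_option autoImplicit false
set_option linter.style.haveILetI false
set_option linter.unusedSectionVars false

namespace Cfsg.Lib.SolvableTransitive

open Module Subgroup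

variable {q : ℕ} [Fact q.Prime] {V : Type*} [AddCommGroup V] [Module (ZMod q) V] [Finite V] [Nontrivial V]
  {G : Type*} [Group G] [Finite G] {τ : G →* Module.End (ZMod q) V}

theorem quad_case {q h : ℕ} (hq : 3 ≤ q) (he : Even h) (hh : h ≠ 0) (h1 : q ^ h = 4 * h + 1) : q = 3 ∧ h = 2 := by
  have hb : ∀ j, 3 ≤ j → 4 * j + 1 < 3 ^ j := by
    intro j hj
    induction j, hj using Nat.le_induction with
    | base => norm_num
    | succ j _ ih => rw [pow_succ]; omega
  have hh2 : h = 2 := by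
    obtain ⟨i, rfl⟩ := he
    by_contra hne
    have h4 := hb (i + i) (by omega)
    have h5 := Nat.pow_le_pow_left hq (i + i)
    omega
  subst hh2
  exact ⟨Nat.pow_left_injective two_ne_zero (show q ^ 2 = 3 ^ 2 by omega), rfl⟩

theorem dichotomy [Group.IsSolvable G] (hinj : Function.Injective τ)
    (htr : ∀ v w : V, v ≠ 0 → w ≠ 0 → ∃ g : G, τ g v = w) :
    (∃ A : Subgroup G, A.Normal ∧ IsCyclic A ∧ Irr (τ '' (A : Set G))) ∨
      Nat.card V ∈ ({9, 25, 49, 121, 529, 81} : Set ℕ) := by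
  classical
  have hq : q.Prime := Fact.out
  have hcardV : Nat.card V = q ^ finrank (ZMod q) V := by
    rw [Module.natCard_eq_pow_finrank (K := ZMod q) (V := V), Nat.card_zmod]
  set n := finrank (ZMod q) V with hn
  have hn0 : 0 < n := Module.finrank_pos
  rcases (show n = 1 ∨ n = 2 ∨ 3 ≤ n by omega) with h1 | h2 | h3
  · refine Or.inl ⟨⊥, inferInstance, isCyclic_of_subsingleton, fun W _ => ?_⟩
    by_cases hW : W = ⊥
    · exact Or.inl hW
    refine Or.inr (Submodule.eq_top_of_finrank_eq (le_antisymm (Submodule.finrank_le _) ?_))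
    rw [← hn, h1]
    exact Nat.pos_of_ne_zero fun e => hW (Submodule.finrank_eq_zero.1 e)
  · rcases two_dim hinj htr h2 with h | h
    · exact Or.inl h
    · right
      rw [hcardV, h2]
      rcases h with rfl | rfl | rfl | rfl | rfl <;> norm_num
  by_cases h62 : q = 2 ∧ n = 6
  · obtain ⟨rfl, h6⟩ := h62
    exact Or.inl (six_two hinj htr h6)
  by_cases hA : ∃ A : Subgroup G, A.Normal ∧ IsCyclic A ∧ Irr (τ '' (A : Set G))
  · exact Or.inl hA
  right
  have hgen : ∀ r, r.Prime → r ∣ q ^ n - 1 → (∀ k, 0 < k → k < n → ¬ r ∣ q ^ k - 1) →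
      Odd q ∧ r = n + 1 ∧ ¬ r ^ 2 ∣ Nat.card G ∧ ∃ m, n = 2 ^ m := by
    intro r hr hd hp
    haveI : Fact r.Prime := ⟨hr⟩
    exact (general hinj htr (by omega) hd hp).resolve_left hA
  obtain ⟨r, hr, hrd, hrp⟩ := Cfsg.Lib.Zsigmondy.zsigmondy q n hq.one_lt (by omega) h62 (fun h => by omega)
  obtain ⟨hqo, hrn, hr2, m, hm⟩ := hgen r hr hrd hrp
  obtain ⟨j, rfl⟩ : ∃ j, m = j + 2 := ⟨m - 2, by
    rcases m with _ | _ | m
    · simp at hm; omega
    · simp at hm; omega
    · omega⟩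
  set h := 2 ^ (j + 1) with hh
  have hnh : n = 2 * h := by rw [hm, hh, pow_succ']
  have hev : Even h := (Nat.even_pow' (by omega)).2 even_two
  have hq3 : 3 ≤ q := by
    rcases hq.eq_two_or_odd' with e | -
    · rw [e] at hqo; exact absurd hqo (by decide)
    · rcases hqo with ⟨t, rfl⟩; have := hq.two_le; omega
  have hfac : q ^ n - 1 = (q ^ h + 1) * (q ^ h - 1) := by
    rw [hnh, mul_comm 2 h, pow_mul]
    simpa using Nat.sq_sub_sq (q ^ h) 1
  have hdG : q ^ h + 1 ∣ Nat.card G := (Dvd.intro _ hfac.symm).trans (card_dvd htr)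
  -- an odd prime divisor of q^h + 1 is a primitive prime divisor
  have hodd : ∀ l, l.Prime → l ≠ 2 → l ∣ q ^ h + 1 → l = r := by
    intro l hl hl2 hld
    refine (hgen l hl (hld.trans (Dvd.intro _ hfac.symm)) fun k hk0 hkn hk => hl2 ?_).2.1.trans hrn.symm
    haveI : Fact l.Prime := ⟨hl⟩
    have hneg : (q : ZMod l) ^ h = -1 := by
      rw [eq_neg_iff_add_eq_zero]
      have := (ZMod.natCast_eq_zero_iff (q ^ h + 1) l).2 hld
      push_cast at this
      exact this
    have hk1 : (q : ZMod l) ^ k = 1 := by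
      have := (ZMod.natCast_eq_zero_iff (q ^ k - 1) l).2 hk
      rw [Nat.cast_sub (Nat.one_le_pow _ _ hq.pos), Nat.cast_pow, Nat.cast_one, sub_eq_zero] at this
      exact this
    have hgcd : (q : ZMod l) ^ Nat.gcd k n = 1 := pow_gcd_eq_one.2 ⟨hk1, (by
      rw [hnh, mul_comm 2 h, pow_mul, hneg, neg_one_sq])⟩
    rw [hm] at hgcd
    obtain ⟨i, hi, hieq⟩ := (Nat.dvd_prime_pow Nat.prime_two).1 (Nat.gcd_dvd_right k (2 ^ (j + 2)))
    have hilt : i < j + 2 := by
      refine lt_of_le_of_ne hi fun e => ?_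
      have := Nat.le_of_dvd hk0 (Nat.gcd_dvd_left k (2 ^ (j + 2)))
      rw [hieq, e] at this
      omega
    rw [hieq] at hgcd
    have hh1 : (q : ZMod l) ^ h = 1 := by
      obtain ⟨c, hc⟩ : 2 ^ i ∣ h := pow_dvd_pow 2 (by omega)
      rw [hc, pow_mul, hgcd, one_pow]
    have h2 : ((2 : ℕ) : ZMod l) = 0 := by
      push_cast
      linear_combination hh1.symm.trans hneg
    exact (Nat.prime_dvd_prime_iff_eq hl Nat.prime_two).1 ((ZMod.natCast_eq_zero_iff 2 l).1 h2)
  have hmod4 : q ^ h % 4 = 1 := by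
    obtain ⟨t, ht⟩ := hev
    obtain ⟨u, hu⟩ := hqo.pow (n := t)
    rw [ht, pow_add, hu, Nat.mul_mod]
    have : (2 * u + 1) % 4 = 1 ∨ (2 * u + 1) % 4 = 3 := by omega
    rcases this with e | e <;> rw [e]
  obtain ⟨u, hu⟩ : ∃ u, q ^ h + 1 = 2 * u := ⟨(q ^ h + 1) / 2, by omega⟩
  have hu1 : u ≠ 1 := fun e => by
    have := Nat.le_self_pow (show h ≠ 0 from pow_ne_zero _ two_ne_zero) q
    omega
  have hur : u = r := by
    have hall : ∀ l, l.Prime → l ∣ u → l = r := fun l hl hd => by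
      refine hodd l hl (fun e => ?_) (hu ▸ hd.mul_left 2)
      subst e
      obtain ⟨c, hc⟩ := hd
      omega
    obtain ⟨l, hl, hlu⟩ := Nat.exists_prime_and_dvd hu1
    obtain ⟨c, hc⟩ : r ∣ u := hall l hl hlu ▸ hlu
    rcases eq_or_ne c 1 with rfl | hc1
    · rw [hc, mul_one]
    obtain ⟨l', hl', hlc⟩ := Nat.exists_prime_and_dvd hc1
    have hl'r := hall l' hl' (hc ▸ hlc.mul_left r)
    subst hl'r
    refine absurd ?_ hr2
    rw [sq]
    refine ((mul_dvd_mul_left l' hlc).trans (Dvd.intro_left 2 ?_)).trans hdG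
    rw [← hc, ← hu]
  obtain ⟨hq3', hh2⟩ := quad_case hq3 hev (pow_ne_zero _ two_ne_zero) (by omega : q ^ h = 4 * h + 1)
  rw [hcardV, hnh, hh2, hq3']
  norm_num

/-- Solvable groups transitive on the non-zero vectors are semilinear or of exceptional degree. -/
theorem main (hsol : Group.IsSolvable G) (ρ : G →* (V ≃ₗ[ZMod q] V)) (hρ : Function.Injective ρ)
    (htrans : ∀ v w : V, v ≠ 0 → w ≠ 0 → ∃ g : G, ρ g v = w) :
    (∃ (F : Type) (_ : Field F) (_ : Fintype F) (e : V ≃+ F),
        ∀ g : G, ∃ (a : F) (σ : F ≃+* F), ∀ v : V, e (ρ g v) = a * σ (e v)) ∨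
    Nat.card V ∈ ({9, 25, 49, 121, 529, 81} : Set ℕ) := by
  let τ : G →* Module.End (ZMod q) V :=
    { toFun := fun g => ((ρ g).toLinearMap : Module.End (ZMod q) V)
      map_one' := by rw [map_one]; rfl
      map_mul' := fun g h => by rw [map_mul]; rfl }
  have hinj : Function.Injective τ := fun g h e => hρ (LinearEquiv.toLinearMap_injective e)
  rcases dichotomy (τ := τ) hinj htrans with ⟨A, hAn, hAc, hirr⟩ | h
  · left
    let H := ρ.range
    let π : G →* H := ρ.rangeRestrict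
    haveI : (A.map π).Normal := hAn.map π ρ.rangeRestrict_surjective
    have hc : IsCyclic (A.map π) := by
      haveI := hAc
      exact isCyclic_of_surjective (π.subgroupMap A) (π.subgroupMap_surjective A)
    obtain ⟨F, iF, iFt, e, he⟩ := Cfsg.Lib.SolvableRegular.semilinear (A.map π) hc fun W hW => hirr W (by
      rintro f ⟨a, ha, rfl⟩ v hv
      exact hW (π a) ⟨a, ha, rfl⟩ v hv)
    exact ⟨F, iF, iFt, e, fun g => he (π g)⟩
  · exact Or.inr h

end Cfsg.Lib.SolvableTransitive
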